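import Cfsg.Agent.Lib.Bender.OneFix.Basic

/-!
Bender's theorem when the point stabiliser has a normal Sylow 2-subgroup: the set-up and first facts.

Blueprint: `blueprint/bender/A_TwoClosed.md`, step 1.
-/

set_option autoImplicit false
set_option linter.unusedSectionVars false
set_option linter.style.haveILetI false

namespace CfsgLib.Bender.TwoClosed

open MulAction Cfsg CfsgLib.SuzukiRankOne

universe u v

variable {G : Type u} {Ω : Type v} [Group G] [MulAction G Ω]

/-- Every involution fixes exactly one point and the 2-elements of a point stabiliser form a subgroup. -/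
structure Closed (G : Type u) (Ω : Type v) [Group G] [MulAction G Ω] (a : Ω) (S : Subgroup G) : Prop where
  trans : IsPretransitive G Ω
  one_fix : ∀ x : G, IsInv x → ∃! c : Ω, x • c = c
  four : Four G
  le : S ≤ stabilizer G a
  conj : ∀ h : G, h • a = a → ∀ x ∈ S, h * x * h⁻¹ ∈ S
  two_group : IsPGroup 2 S
  two_mem : ∀ x : G, x • a = a → (∃ k : ℕ, x ^ 2 ^ k = 1) → x ∈ S

/-- The 2-subgroup `S` is transitive on the other points. -/
def Trans (a : Ω) (S : Subgroup G) : Prop := ∀ b c : Ω, b ≠ a → c ≠ a → ∃ x ∈ S, x • b = c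

variable {a b : Ω} {S : Subgroup G} (hC : Closed G Ω a S)
include hC

theorem Closed.oneFix : OneFix G Ω := ⟨hC.trans, hC.one_fix, hC.four⟩

theorem eq_of_fix {x : G} (hx : IsInv x) {c d : Ω} (hc : x • c = c) (hd : x • d = d) : c = d :=
  OneFix.eq_of_fix hC.oneFix hx hc hd

theorem exists_fix {x : G} (hx : IsInv x) : ∃ c : Ω, x • c = c :=
  OneFix.exists_fix hC.oneFix hx

theorem commute_fix {x g : G} (hx : IsInv x) {c : Ω} (hc : x • c = c) (h : g * x = x * g) : g • c = c :=
  OneFix.commute_fix hC.oneFix hx hc h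

theorem mem_S {x : G} (hx : IsInv x) (hxa : x • a = a) : x ∈ S :=
  hC.two_mem x hxa ⟨1, by rw [pow_one, pow_two, hx.2]⟩

theorem smul_a {x : G} (hx : x ∈ S) : x • a = a := mem_stabilizer_iff.mp (hC.le hx)

theorem exists_at (c : Ω) : ∃ T : Subgroup G, Closed G Ω c T := by
  haveI := hC.trans
  obtain ⟨g, rfl⟩ := exists_smul_eq G a c
  have hmem : ∀ {x : G}, x ∈ S.map (MulAut.conj g).toMonoidHom ↔ g⁻¹ * x * g ∈ S := fun {x} => by
    constructor
    · rintro ⟨y, hy, rfl⟩
      simpa [mul_assoc] using hy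
    · intro h
      exact ⟨_, h, by simp [mul_assoc]⟩
  have hfix : ∀ {x : G}, x • g • a = g • a → (g⁻¹ * x * g) • a = a := fun {x} h => by
    rw [mul_smul, mul_smul, h, inv_smul_smul]
  refine ⟨S.map (MulAut.conj g).toMonoidHom, hC.trans, hC.one_fix, hC.four, ?_, ?_, hC.two_group.map _, ?_⟩
  · intro x hx
    have h := smul_a hC (hmem.mp hx)
    rw [mul_smul, mul_smul, inv_smul_eq_iff] at h
    exact mem_stabilizer_iff.mpr h
  · intro h hh x hx
    refine hmem.mpr ?_
    have := hC.conj _ (hfix hh) _ (hmem.mp hx)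
    convert this using 1
    group
  · rintro x hx ⟨k, hk⟩
    refine hmem.mpr (hC.two_mem _ (hfix hx) ⟨k, ?_⟩)
    have h1 := conj_pow (i := 2 ^ k) (a := g⁻¹) (b := x)
    rw [inv_inv] at h1
    rw [h1, hk, mul_one, inv_mul_cancel]

theorem exists_inv : ∃ x : G, IsInv x :=
  OneFix.exists_inv hC.oneFix

theorem exists_inv_at (c : Ω) : ∃ x : G, IsInv x ∧ x • c = c :=
  OneFix.exists_inv_at hC.oneFix c

theorem exists_two_at (c : Ω) : ∃ x y : G, IsInv x ∧ x • c = c ∧ IsInv y ∧ y • c = c ∧ x ≠ y :=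
  OneFix.exists_two_at hC.oneFix c

variable [Finite G]

theorem eq_one_of_fix {x : G} (hx : x ∈ S) (hb : x • b = b) (hne : b ≠ a) : x = 1 := by
  haveI : Fact (Nat.Prime 2) := ⟨Nat.prime_two⟩
  by_contra h1
  obtain ⟨k, hk⟩ := IsPGroup.iff_card.mp (hC.two_group.to_le (Subgroup.zpowers_le.mpr hx))
  have hev : Even (Nat.card (Subgroup.zpowers x)) := by
    rw [hk]
    refine even_two.pow_of_ne_zero fun e => h1 (orderOf_eq_one_iff.mp ?_)
    rw [← Nat.card_zpowers, hk, e, pow_zero]
  obtain ⟨y, hy, hi⟩ := exists_inv_of_even hev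
  exact hne (eq_of_fix hC hi (mem_stabilizer_iff.mp (Subgroup.zpowers_le.mpr (mem_stabilizer_iff.mpr hb) hy))
    (mem_stabilizer_iff.mp (hC.le (Subgroup.zpowers_le.mpr hx hy))))

theorem odd_two {c d : Ω} (hne : c ≠ d) : Odd (Nat.card (two c d : Subgroup G)) :=
  OneFix.odd_two hC.oneFix hne

theorem odd_mul {i j : G} {c d : Ω} (hi : IsInv i) (hc : i • c = c) (hj : IsInv j) (hd : j • d = d)
    (hne : c ≠ d) : Odd (orderOf (i * j)) :=
  OneFix.odd_mul hC.oneFix hi hc hj hd hne

theorem swap_points {i j u : G} {c d : Ω} (hi : IsInv i) (hc : i • c = c) (hj : IsInv j) (hd : j • d = d)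
    (hu : IsInv u) (he : u * i * u = j) : u • c = d ∧ u • d = c :=
  OneFix.swap_points hC.oneFix hi hc hj hd hu he

theorem exists_swap_conj {i j : G} {c d : Ω} (hi : IsInv i) (hc : i • c = c) (hj : IsInv j)
    (hd : j • d = d) (hne : c ≠ d) : ∃ u, IsInv u ∧ u * i * u = j ∧ u ∈ Subgroup.closure ({i, j} : Set G) :=
  OneFix.exists_swap_conj hC.oneFix hi hc hj hd hne

theorem exists_swap {c d : Ω} (hne : c ≠ d) : Nonempty (Swap G c d) :=
  OneFix.exists_swap hC.oneFix hne

theorem swap_back {u : G} (hu : IsInv u) (h : u • a = b) : u • b = a :=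
  hu.swap_back h

theorem exists_ne [FaithfulSMul G Ω] : ∃ b : Ω, b ≠ a :=
  OneFix.exists_ne hC.oneFix a

/-- An odd order element inverted by an involution commutes with no involution fixed by it. -/
theorem inverted_commute {x u y : G} (hu : IsInv u) (hx : IsInv x) (hy : Odd (orderOf y))
    (hinv : u * y * u = y⁻¹) (hxy : y * x = x * y) {c : Ω} (hxc : x • c = c) (hne : u • c ≠ c) : y = 1 :=
  OneFix.inverted_commute hC.oneFix hu hx hy hinv hxy hxc hne

theorem swap_unique {i u u' : G} {c d : Ω} (hi : IsInv i) (hc : i • c = c) (hne : c ≠ d) (hu : IsInv u)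
    (hu' : IsInv u') (hj : (u * i * u) • d = d) (he : u' * i * u' = u * i * u) : u' = u :=
  OneFix.swap_unique hC.oneFix hi hc hne hu hu' hj he

theorem exists_conj_stab {i i' : G} {c : Ω} (hi : IsInv i) (hc : i • c = c) (hi' : IsInv i')
    (hc' : i' • c = c) {d : Ω} (hne : c ≠ d) : ∃ g ∈ two c d, g * i * g⁻¹ = i' :=
  OneFix.exists_conj_stab hC.oneFix hi hc hi' hc' hne

theorem inv_central [FaithfulSMul G Ω] {i x : G} (hi : IsInv i) (hia : i • a = a) (hx : x ∈ S) :
    i * x = x * i := by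
  haveI : Fact (Nat.Prime 2) := ⟨Nat.prime_two⟩
  obtain ⟨b, hb⟩ := exists_ne hC
  have hiS := mem_S hC hi hia
  haveI : Nontrivial S := ⟨⟨⟨i, hiS⟩, 1, fun e => hi.1 (congrArg Subtype.val e)⟩⟩
  haveI : Nontrivial (Subgroup.center S) := hC.two_group.center_nontrivial
  obtain ⟨k, hk⟩ := IsPGroup.iff_card.mp (hC.two_group.to_subgroup (Subgroup.center S))
  have hev : Even (Nat.card (Subgroup.center S)) := by
    rw [hk]
    refine even_two.pow_of_ne_zero fun e => ?_
    have h1 : 1 < Nat.card (Subgroup.center S) := Finite.one_lt_card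
    rw [hk, e, pow_zero] at h1
    exact lt_irrefl _ h1
  obtain ⟨z, hz, hzi⟩ := exists_inv_of_even hev
  have hzi' : IsInv (z : G) := ⟨fun e => hzi.1 (Subtype.ext e), congrArg Subtype.val hzi.2⟩
  obtain ⟨g, hg, rfl⟩ := exists_conj_stab hC hzi' (smul_a hC z.2) hi hia hb.symm
  have hga := (mem_two.mp hg).1
  have h1 : g⁻¹ * x * g ∈ S := by
    simpa using hC.conj g⁻¹ (by rw [inv_smul_eq_iff, hga]) x hx
  have h2 := congrArg Subtype.val (Subgroup.mem_center_iff.mp hz ⟨_, h1⟩)
  simp only [Subgroup.coe_mul] at h2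
  calc g * (z : G) * g⁻¹ * x = g * ((z : G) * (g⁻¹ * x * g)) * g⁻¹ := by group
    _ = g * (g⁻¹ * x * g * z) * g⁻¹ := by rw [h2]
    _ = x * (g * z * g⁻¹) := by group

omit hC

/-- The involutions of `S` and the identity. -/
noncomputable def omega [FaithfulSMul G Ω] (hC : Closed G Ω a S) : Subgroup G where
  carrier := {x | x ∈ S ∧ x * x = 1}
  one_mem' := ⟨one_mem S, mul_one 1⟩
  mul_mem' := by
    rintro x y ⟨hx, hx2⟩ ⟨hy, hy2⟩
    refine ⟨mul_mem hx hy, ?_⟩
    rcases eq_or_ne x 1 with rfl | hx1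
    · rw [one_mul, hy2]
    have h := inv_central hC ⟨hx1, hx2⟩ (smul_a hC hx) hy
    calc x * y * (x * y) = (x * y) * (y * x) := by rw [h]
      _ = 1 := by rw [mul_assoc, ← mul_assoc y y, hy2, one_mul, hx2]
  inv_mem' := fun {x} ⟨hx, hx2⟩ => ⟨inv_mem hx, by rw [← mul_inv_rev, hx2, inv_one]⟩

include hC

theorem mem_omega [FaithfulSMul G Ω] {x : G} : x ∈ omega hC ↔ x ∈ S ∧ x * x = 1 := Iff.rfl

theorem card_omega [FaithfulSMul G Ω] : Nat.card (omega hC) = Nat.card (InvAt G a) + 1 := by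
  classical
  rw [← Finite.card_option]
  exact Nat.card_congr
    { toFun := fun x => if h : (x : G) = 1 then none else some ⟨x, ⟨h, x.2.2⟩, smul_a hC x.2.1⟩
      invFun := fun o => o.elim 1 fun x => ⟨x, mem_S hC x.2.1 x.2.2, x.2.1.2⟩
      left_inv := fun x => by
        dsimp only
        split
        · exact Subtype.ext (by simpa using ‹(x : G) = 1›.symm)
        · rfl
      right_inv := fun o => by
        cases o with
        | none => simp
        | some x => simp [x.2.1.1] }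

theorem qZ_eq : qZ G a = Nat.card (InvAt G a) + 1 := by
  refine congrArg (· + 1) (Nat.card_congr (Equiv.subtypeEquivRight fun x => ?_))
  exact ⟨fun h => ⟨⟨h.2.1, h.2.2⟩, h.1⟩, fun h => ⟨h.2, h.1.1, h.1.2⟩⟩

theorem card_invAt_ge [FaithfulSMul G Ω] : 3 ≤ Nat.card (InvAt G a) :=
  OneFix.card_invAt_ge hC.oneFix a

theorem odd_invAt [FaithfulSMul G Ω] : Odd (Nat.card (InvAt G a)) :=
  OneFix.odd_invAt hC.oneFix a

theorem card_invAt_eq (c : Ω) : Nat.card (InvAt G c) = Nat.card (InvAt G a) :=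
  OneFix.card_invAt_eq hC.oneFix c a

theorem card_swap (hb : b ≠ a) : Nat.card (Swap G a b) = Nat.card (InvAt G a) :=
  OneFix.card_swap hC.oneFix hb

theorem card_two_eq (hb : b ≠ a) {u : G} (hu : IsInv u) (hua : u • a = b) :
    Nat.card (two a b : Subgroup G) =
      Nat.card (InvAt G a) * Nat.card ↥(two a b ⊓ Subgroup.centralizer ({u} : Set G)) :=
  OneFix.card_two_eq hC.oneFix hb hu hua

end CfsgLib.Bender.TwoClosed
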