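import Mathlib.GroupTheory.Sylow
import Mathlib.GroupTheory.Nilpotent
import Cfsg.Agent.Lib.Involutions

/-!
Maximal `p`-subgroups of a subgroup, and other elementary tools for the 2-closed case of Bender's theorem.
-/

set_option autoImplicit false
set_option linter.unusedSectionVars false
set_option linter.style.haveILetI false

namespace CfsgLib.Bender.TwoClosed

open scoped Pointwise

universe u

variable {G : Type u} [Group G] [Finite G]

/-- A maximal `p`-subgroup of `K`. -/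
def MaxP (p : ℕ) (K P : Subgroup G) : Prop := Maximal (fun Y : Subgroup G => IsPGroup p Y ∧ Y ≤ K) P

theorem MaxP.le {p : ℕ} {K P : Subgroup G} (h : MaxP p K P) : P ≤ K := h.prop.2

theorem MaxP.isPGroup {p : ℕ} {K P : Subgroup G} (h : MaxP p K P) : IsPGroup p P := h.prop.1

theorem MaxP.eq_of_le {p : ℕ} {K P Y : Subgroup G} (h : MaxP p K P) (hY : IsPGroup p Y) (hYK : Y ≤ K)
    (hPY : P ≤ Y) : Y = P := le_antisymm (h.2 ⟨hY, hYK⟩ hPY) hPY

theorem exists_maxP {p : ℕ} {K X : Subgroup G} (hX : IsPGroup p X) (hXK : X ≤ K) :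
    ∃ P, X ≤ P ∧ MaxP p K P :=
  Finite.exists_le_maximal (p := fun Y : Subgroup G => IsPGroup p Y ∧ Y ≤ K) ⟨hX, hXK⟩

theorem MaxP.of_le {p : ℕ} {K L P : Subgroup G} (h : MaxP p K P) (hLK : L ≤ K) (hPL : P ≤ L) : MaxP p L P :=
  ⟨⟨h.isPGroup, hPL⟩, fun _ hY hPY => h.2 ⟨hY.1, hY.2.trans hLK⟩ hPY⟩

theorem MaxP.sylow {p : ℕ} {K P : Subgroup G} (h : MaxP p K P) :
    ∃ T : Sylow p K, (T : Subgroup K) = P.subgroupOf K := by
  refine ⟨⟨P.subgroupOf K, h.isPGroup.comap_subtype, fun {R} hR hle => ?_⟩, rfl⟩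
  have h1 : R.map K.subtype = P := h.eq_of_le (hR.map _) (Subgroup.map_subtype_le R) (by
    rw [← Subgroup.subgroupOf_map_subtype P K |>.trans (inf_eq_left.mpr h.le)]
    exact Subgroup.map_mono hle)
  rw [← h1, Subgroup.subgroupOf, Subgroup.comap_map_eq_self_of_injective K.subtype_injective]

theorem MaxP.card {p : ℕ} [Fact p.Prime] {K P : Subgroup G} (h : MaxP p K P) :
    Nat.card P = p ^ (Nat.card K).factorization p := by
  obtain ⟨T, hT⟩ := h.sylow
  rw [← T.card_eq_multiplicity, hT]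
  exact (Nat.card_congr (Subgroup.subgroupOfEquivOfLe h.le).toEquiv).symm

theorem maxP_of_card {p : ℕ} [Fact p.Prime] {K P : Subgroup G} (hP : IsPGroup p P) (hPK : P ≤ K)
    (hc : Nat.card P = p ^ (Nat.card K).factorization p) : MaxP p K P := by
  obtain ⟨Y, hPY, hY⟩ := exists_maxP hP hPK
  have := Subgroup.eq_of_le_of_card_ge hPY (by rw [hY.card, hc])
  exact this ▸ hY

theorem MaxP.conj {p : ℕ} [Fact p.Prime] {K P Q : Subgroup G} (hP : MaxP p K P) (hQ : MaxP p K Q) :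
    ∃ g ∈ K, ∀ x : G, x ∈ P ↔ g * x * g⁻¹ ∈ Q := by
  obtain ⟨T, hT⟩ := hP.sylow
  obtain ⟨U, hU⟩ := hQ.sylow
  obtain ⟨g, hg⟩ := MulAction.exists_smul_eq K T U
  refine ⟨g, g.2, fun x => ⟨fun hx => ?_, fun hx => ?_⟩⟩
  · have h1 : (⟨x, hP.le hx⟩ : K) ∈ (T : Subgroup K) := by rw [hT]; exact hx
    have h2 := Subgroup.smul_mem_pointwise_smul _ (MulAut.conj g) (T : Subgroup K) h1
    rw [← Sylow.pointwise_smul_def, ← Sylow.smul_def, hg, hU] at h2
    exact h2
  · have hxK : x ∈ K := by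
      have := mul_mem (mul_mem (inv_mem g.2) (hQ.le hx)) g.2
      simpa [mul_assoc] using this
    have h1 : MulAut.conj g • (⟨x, hxK⟩ : K) ∈ (U : Subgroup K) := by rw [hU]; exact hx
    rw [← hg, Sylow.smul_def, Sylow.pointwise_smul_def, Subgroup.smul_mem_pointwise_smul_iff, hT] at h1
    exact h1

theorem mem_normalizer_of_conj {K : Subgroup G} {g : G} (h : ∀ x ∈ K, g * x * g⁻¹ ∈ K) :
    g ∈ Subgroup.normalizer (K : Set G) := by
  rw [Subgroup.mem_normalizer_iff_map_conj_eq]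
  refine Subgroup.eq_of_le_of_card_ge ?_ (Subgroup.card_map_of_injective (MulAut.conj g).injective).ge
  rintro _ ⟨x, hx, rfl⟩
  exact h x hx

theorem conj_mem_of_normalizer {K : Subgroup G} {g x : G} (h : g ∈ Subgroup.normalizer (K : Set G))
    (hx : x ∈ K) : g * x * g⁻¹ ∈ K := (Subgroup.mem_normalizer_iff.mp h x).mp hx

/-- A proper subgroup of a `p`-group is properly normalised. -/
theorem exists_mem_normalizer {p : ℕ} [Fact p.Prime] {X Y : Subgroup G} (hY : IsPGroup p Y) (h : X < Y) :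
    ∃ g ∈ Y, g ∉ X ∧ g ∈ Subgroup.normalizer (X : Set G) := by
  haveI : Group.IsNilpotent ↥Y := hY.isNilpotent
  have hlt : X.subgroupOf Y < ⊤ := lt_top_iff_ne_top.mpr fun e =>
    h.ne (le_antisymm h.le (Subgroup.subgroupOf_eq_top.mp e))
  obtain ⟨n, hn, hnX⟩ := SetLike.exists_of_lt (Group.normalizerCondition_of_isNilpotent _ hlt)
  exact ⟨n, n.2, fun e => hnX e, mem_normalizer_of_conj fun x hx =>
    (Subgroup.mem_normalizer_iff.mp hn ⟨x, h.le hx⟩).mp hx⟩

theorem mem_of_sq_mem {H : Subgroup G} {g : G} (h : Odd (orderOf g)) (h2 : g * g ∈ H) : g ∈ H := by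
  obtain ⟨n, hn⟩ := CfsgLib.Involutions.exists_sqrt h
  rw [← hn, ← (Commute.refl g).mul_pow]
  exact pow_mem h2 n

theorem odd_orderOf_of_pGroup {p : ℕ} [Fact p.Prime] (hp2 : p ≠ 2) {P : Subgroup G} (hP : IsPGroup p P)
    {g : G} (hg : g ∈ P) : Odd (orderOf g) := by
  obtain ⟨k, hk⟩ := IsPGroup.iff_card.mp hP
  exact (((Fact.out : p.Prime).odd_of_ne_two hp2).pow (n := k)).of_dvd_nat
    (hk ▸ Subgroup.orderOf_dvd_natCard P hg)

/-- An involution normalising a subgroup of odd order normalises one of its maximal `p`-subgroups. -/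
theorem exists_invariant_maxP {p : ℕ} [Fact p.Prime] {K : Subgroup G} {x : G} (hK : Odd (Nat.card K))
    (hx : x * x = 1) (hn : ∀ k ∈ K, x * k * x⁻¹ ∈ K) :
    ∃ R : Subgroup G, MaxP p K R ∧ x ∈ Subgroup.normalizer (R : Set G) := by
  haveI : Fact (Nat.Prime 2) := ⟨Nat.prime_two⟩
  have hxN : x ∈ Subgroup.normalizer (K : Set G) := mem_normalizer_of_conj hn
  let φ : Subgroup.zpowers x →* MulAut K :=
    K.normalizerMonoidHom.comp (Subgroup.inclusion (Subgroup.zpowers_le.2 hxN))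
  letI : MulDistribMulAction (Subgroup.zpowers x) K := MulDistribMulAction.compHom K φ
  have hPg : IsPGroup 2 (Subgroup.zpowers x) := by
    obtain ⟨i, -, hi⟩ := (Nat.dvd_prime_pow Nat.prime_two).1
      (show orderOf x ∣ 2 ^ 1 from orderOf_dvd_of_pow_eq_one (by rw [pow_one, pow_two, hx]))
    exact IsPGroup.of_card (n := i) (by rw [Nat.card_zpowers, hi])
  have hcount : ¬ 2 ∣ Nat.card (Sylow p K) := fun h => Nat.not_even_iff_odd.mpr hK (even_iff_two_dvd.mpr
    (h.trans ((Sylow.card_dvd_index default).trans (Subgroup.index_dvd_card _))))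
  obtain ⟨T, hT⟩ := hPg.nonempty_fixed_point_of_prime_not_dvd_card (Sylow p K) hcount
  refine ⟨(T : Subgroup K).map K.subtype, maxP_of_card (T.isPGroup'.map _) (Subgroup.map_subtype_le _) ?_,
    mem_normalizer_of_conj ?_⟩
  · rw [Subgroup.card_map_of_injective K.subtype_injective, T.card_eq_multiplicity]
  · rintro _ ⟨k, hk, rfl⟩
    have h1 : (⟨x, Subgroup.mem_zpowers x⟩ : Subgroup.zpowers x) • T = T := hT ⟨x, Subgroup.mem_zpowers x⟩
    refine ⟨(⟨x, Subgroup.mem_zpowers x⟩ : Subgroup.zpowers x) • k, ?_, rfl⟩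
    have h2 := Subgroup.smul_mem_pointwise_smul k (⟨x, Subgroup.mem_zpowers x⟩ : Subgroup.zpowers x)
      (T : Subgroup K) hk
    rwa [← Sylow.pointwise_smul_def, h1] at h2

end CfsgLib.Bender.TwoClosed
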