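import Cfsg.Agent.Lib.Bender.TwoClosed.Basic
import Cfsg.Agent.Lib.Bender.OneFix.Fixed

/-!
A `p`-subgroup whose centraliser has odd order fixes at most two points.

Blueprint: `blueprint/bender/A_TwoClosed.md`, step 2.
-/

set_option autoImplicit false
set_option linter.unusedSectionVars false
set_option linter.style.haveILetI false

namespace CfsgLib.Bender.TwoClosed

open MulAction Cfsg

universe u v

variable {G : Type u} {Ω : Type v} [Group G] [MulAction G Ω] [Finite G] [FaithfulSMul G Ω] {a : Ω}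
  {S : Subgroup G} (hC : Closed G Ω a S)
include hC

/-- A 2-closed point stabiliser leaves no bad elements. -/
theorem noBad : NoBad G Ω := by
  intro u y c d hu huc hinv hyc hne hyd
  obtain ⟨T, hT⟩ := exists_at hC c
  have h1 : u * y * u * y⁻¹ ∈ T := by
    rw [show u * y * u * y⁻¹ = u * (y * u * y⁻¹) by group]
    exact mul_mem (mem_S hT hu huc) (hT.conj y hyc _ (mem_S hT hu huc))
  rw [hinv] at h1
  have hy : y ∈ two c d := mem_two.mpr ⟨hyc, hyd⟩
  refine eq_one_of_two_odd ?_ (odd_orderOf (odd_two hC hne.symm) hy)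
  have h2 := eq_one_of_fix hT h1 (by rw [mul_smul, inv_smul_eq_iff.mpr hyd.symm, inv_smul_eq_iff.mpr hyd.symm]) hne
  rw [← mul_inv_rev, inv_eq_one] at h2
  rw [pow_two, h2]

/-- Step 2 of the blueprint. -/
theorem fix_le_two {p : ℕ} [Fact p.Prime] (hp2 : p ≠ 2) :
    ∀ X : Subgroup G, IsPGroup p X → OddCent X → ∀ c d e : Ω, c ∈ fixSet Ω X →
      d ∈ fixSet Ω X → e ∈ fixSet Ω X → c ≠ d → c ≠ e → d ≠ e → False :=
  OneFix.fix_le_two hC.oneFix (noBad hC) hp2

end CfsgLib.Bender.TwoClosed
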