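import Cfsg.Agent.Lib.Bender.TwoClosed.Semilinear
import Mathlib.GroupTheory.Transfer

/-!
Bender's theorem, part A, for 2-closed point stabilisers: the Sylow 2-subgroup is transitive.

Blueprint: `blueprint/bender/A_TwoClosed.md`, steps 5–7.
-/

set_option autoImplicit false
set_option linter.unusedSectionVars false
set_option linter.style.haveILetI false

namespace CfsgLib.Bender.TwoClosed

open MulAction Cfsg

universe u v

variable {G : Type u} [Group G]

/-- The central elements of exponent `p` of a subgroup. -/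
def pcen (p : ℕ) (X : Subgroup G) : Subgroup G where
  carrier := {x | x ∈ X ∧ (∀ e ∈ X, e * x = x * e) ∧ x ^ p = 1}
  one_mem' := ⟨one_mem X, fun e _ => by rw [mul_one, one_mul], one_pow p⟩
  mul_mem' := by
    rintro x y ⟨hx, hxc, hxp⟩ ⟨hy, hyc, hyp⟩
    refine ⟨mul_mem hx hy, fun e he => (Commute.mul_right (hxc e he) (hyc e he)).eq, ?_⟩
    rw [Commute.mul_pow (hyc x hx), hxp, hyp, one_mul]
  inv_mem' := fun {x} ⟨hx, hxc, hxp⟩ =>
    ⟨inv_mem hx, fun e he => (Commute.inv_right (hxc e he)).eq, by rw [inv_pow, hxp, inv_one]⟩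

theorem pcen_ne_bot [Finite G] {p : ℕ} [Fact p.Prime] {X : Subgroup G} (hX : IsPGroup p X) (h : X ≠ ⊥) :
    ∃ z ∈ pcen p X, z ≠ 1 := by
  haveI : Nontrivial X := (Subgroup.nontrivial_iff_ne_bot X).mpr h
  haveI : Nontrivial (Subgroup.center X) := hX.center_nontrivial
  obtain ⟨k, hk⟩ := IsPGroup.iff_card.mp (hX.to_subgroup (Subgroup.center X))
  have hd : p ∣ Nat.card (Subgroup.center X) := by
    rw [hk]
    refine dvd_pow_self p fun e => ?_
    have h1 : 1 < Nat.card (Subgroup.center X) := Finite.one_lt_card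
    rw [hk, e, pow_zero] at h1
    exact lt_irrefl _ h1
  obtain ⟨z, hz⟩ := exists_prime_orderOf_dvd_card' (G := Subgroup.center X) p hd
  refine ⟨((z : X) : G), ⟨z.1.2, fun e he => ?_, ?_⟩, fun e => ?_⟩
  · exact congrArg Subtype.val (Subgroup.mem_center_iff.mp z.2 ⟨e, he⟩)
  · rw [← hz]
    exact congrArg (fun w : Subgroup.center X => ((w : X) : G)) (pow_orderOf_eq_one z)
  · rw [show z = 1 from Subtype.ext (Subtype.ext e), orderOf_one] at hz
    exact (Fact.out : p.Prime).one_lt.ne hz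

theorem normalizer_le_pcen [Finite G] {p : ℕ} {X : Subgroup G} {g : G}
    (hg : g ∈ Subgroup.normalizer (X : Set G)) : g ∈ Subgroup.normalizer (pcen p X : Set G) := by
  refine mem_normalizer_of_conj fun x hx => ⟨conj_mem_of_normalizer hg hx.1, fun e he => ?_, ?_⟩
  · have h := hx.2.1 _ ((Subgroup.mem_normalizer_iff''.mp hg e).mp he)
    calc e * (g * x * g⁻¹) = g * ((g⁻¹ * e * g) * x) * g⁻¹ := by group
      _ = g * x * g⁻¹ * e := by rw [h]; group
  · rw [conj_pow, hx.2.2, mul_one, mul_inv_cancel]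

/-- A solvable non-trivial normal subgroup contains a non-trivial normal `q`-subgroup, `q` prime. -/
theorem exists_normal_qgroup [Finite G] (N : Subgroup G) [hN : N.Normal] [Group.IsSolvable N] (hN1 : N ≠ ⊥) :
    ∃ (q : ℕ) (A : Subgroup G), q.Prime ∧ A.Normal ∧ A ≤ N ∧ A ≠ ⊥ ∧ IsPGroup q A := by
  obtain ⟨A, ⟨hAn, hA1, hAN⟩, hmin⟩ := (wellFounded_lt (α := Subgroup G)).has_min
    {A | A.Normal ∧ A ≠ ⊥ ∧ A ≤ N} ⟨N, hN, hN1, le_rfl⟩
  haveI := hAn
  have hab : ∀ x ∈ A, ∀ y ∈ A, x * y = y * x := by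
    by_cases he : ⁅A, A⁆ = ⊥
    · intro x hx y hy
      have hm := Subgroup.commutator_mem_commutator hx hy
      rw [he, Subgroup.mem_bot, commutatorElement_eq_one_iff_mul_comm] at hm
      exact hm
    exfalso
    have hle : ⁅A, A⁆ ≤ A := Subgroup.commutator_le_right A A
    have heq : ⁅A, A⁆ = A := by
      by_contra hne
      exact hmin ⁅A, A⁆ ⟨inferInstance, he, hle.trans hAN⟩ (lt_of_le_of_ne hle hne)
    haveI : Group.IsSolvable A := Group.isSolvable_of_isSolvable_injective (Subgroup.inclusion_injective hAN)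
    haveI : Nontrivial A := (Subgroup.nontrivial_iff_ne_bot A).mpr hA1
    refine (Group.IsSolvable.commutator_lt_top_of_nontrivial A).ne ?_
    refine Subgroup.map_injective A.subtype_injective ?_
    rw [_root_.commutator_def, Subgroup.map_commutator, ← MonoidHom.range_eq_map, Subgroup.range_subtype, heq]
  obtain ⟨q, hq, hdvd⟩ := Nat.exists_prime_and_dvd (show Nat.card A ≠ 1 from fun h => hA1 (Subgroup.card_eq_one.mp h))
  haveI := Fact.mk hq
  obtain ⟨z, hz⟩ := exists_prime_orderOf_dvd_card' (G := A) q hdvd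
  let B : Subgroup G :=
    { carrier := {x | x ∈ A ∧ x ^ q = 1}
      one_mem' := ⟨one_mem A, one_pow q⟩
      mul_mem' := fun {x y} ⟨hx, hxq⟩ ⟨hy, hyq⟩ =>
        ⟨mul_mem hx hy, by rw [Commute.mul_pow (hab x hx y hy), hxq, hyq, one_mul]⟩
      inv_mem' := fun {x} ⟨hx, hxq⟩ => ⟨inv_mem hx, by rw [inv_pow, hxq, inv_one]⟩ }
  refine ⟨q, B, hq, ⟨fun x hx g => ⟨hAn.conj_mem x hx.1 g, by rw [conj_pow, hx.2, mul_one, mul_inv_cancel]⟩⟩,
    fun x hx => hAN hx.1, fun h => ?_, fun x => ⟨1, Subtype.ext (by rw [pow_one]; exact x.2.2)⟩⟩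
  have hzB : (z : G) ∈ B := ⟨z.2, by rw [← hz]; exact congrArg Subtype.val (pow_orderOf_eq_one z)⟩
  rw [h, Subgroup.mem_bot] at hzB
  rw [show z = 1 from Subtype.ext hzB, orderOf_one] at hz
  exact hq.one_lt.ne hz

variable {Ω : Type v} [MulAction G Ω] [Finite G] [FaithfulSMul G Ω] {a b : Ω} {S : Subgroup G}
  (hC : Closed G Ω a S)
include hC

theorem S_le_cz : S ≤ cz a := fun x hx =>
  mem_cz.mpr ⟨smul_a hC hx, fun i hi hia => inv_central hC hi hia hx⟩

theorem stab_le_normalizer_cz {g : G} (hg : g • a = a) {x : G} (hx : x ∈ cz (G := G) a) :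
    g * x * g⁻¹ ∈ cz (G := G) a := by
  obtain ⟨hxa, hxc⟩ := mem_cz.mp hx
  have hga : g⁻¹ • a = a := by rw [inv_smul_eq_iff, hg]
  refine mem_cz.mpr ⟨by rw [mul_smul, mul_smul, hga, hxa, hg], fun i hi hia => ?_⟩
  have h := hxc (g⁻¹ * i * g) (by simpa using hi.conj g⁻¹) (by rw [mul_smul, mul_smul, hg, hia, hga])
  calc i * (g * x * g⁻¹) = g * ((g⁻¹ * i * g) * x) * g⁻¹ := by group
    _ = g * x * g⁻¹ * i := by rw [h]; group

theorem card_SD (hb : b ≠ a) :
    Nat.card ↥(S ⊔ two a b) = Nat.card S * Nat.card (two a b : Subgroup G) := by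
  have hn : two a b ≤ Subgroup.normalizer (S : Set G) := fun d hd =>
    mem_normalizer_of_conj fun x hx => hC.conj d (mem_two.mp hd).1 x hx
  rw [← Nat.card_prod]
  refine (Nat.card_eq_of_bijective (fun z : S × (two a b : Subgroup G) =>
    (⟨z.1 * z.2, Subgroup.mul_mem_sup z.1.2 z.2.2⟩ : ↥(S ⊔ two a b))) ⟨?_, ?_⟩).symm
  · rintro ⟨x, d⟩ ⟨x', d'⟩ h
    have h' : (x : G) * d = x' * d' := congrArg Subtype.val h
    have h1 : (x : G) • b = (x' : G) • b := by
      have h2 := congrArg (fun g : G => g • b) h'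
      simp only [mul_smul] at h2
      rwa [(mem_two.mp d.2).2, (mem_two.mp d'.2).2] at h2
    have h3 : (x' : G)⁻¹ * x = 1 := eq_one_of_fix hC (mul_mem (inv_mem x'.2) x.2)
      (by rw [mul_smul, h1, inv_smul_smul]) hb
    have h4 : x' = x := Subtype.ext (inv_mul_eq_one.mp h3)
    subst h4
    exact Prod.ext rfl (Subtype.ext (mul_left_cancel h'))
  · rintro ⟨g, hg⟩
    rw [← SetLike.mem_coe, Subgroup.coe_mul_of_right_le_normalizer_left _ _ hn] at hg
    obtain ⟨x, hx, d, hd, rfl⟩ := Set.mem_mul.mp hg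
    exact ⟨(⟨x, hx⟩, ⟨d, hd⟩), rfl⟩

variable {p : ℕ} [Fact p.Prime]

/-- A `p`-subgroup of `S D`, `p` odd, containing a maximal one of `D` equals it. -/
theorem eq_of_le_SD (hp2 : p ≠ 2) (hb : b ≠ a) {R T : Subgroup G} (hR : MaxP p (two a b) R)
    (hT : IsPGroup p T) (hTle : T ≤ S ⊔ two a b) (hRT : R ≤ T) : T = R := by
  haveI : Fact (Nat.Prime 2) := ⟨Nat.prime_two⟩
  obtain ⟨j, hj⟩ := IsPGroup.iff_card.mp hT
  have hd : p ^ j ∣ Nat.card (two a b : Subgroup G) := by
    have h := Subgroup.card_dvd_of_le hTle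
    rw [card_SD hC hb, hj] at h
    refine (Nat.Coprime.pow_left j ?_).dvd_of_dvd_mul_left h
    obtain ⟨k, hk⟩ := IsPGroup.iff_card.mp hC.two_group
    rw [hk]
    exact ((Nat.coprime_primes Fact.out Nat.prime_two).mpr hp2).pow_right k
  refine (Subgroup.eq_of_le_of_card_ge hRT ?_).symm
  rw [hR.card, hj]
  exact Nat.pow_le_pow_right (Fact.out : p.Prime).pos
    (((Fact.out : p.Prime).pow_dvd_iff_le_factorization Nat.card_pos.ne').mp hd)

omit [Fact p.Prime] in
theorem swap_conj_two (hb : b ≠ a) {u : G} (hu : IsInv u) (hua : u • a = b) :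
    ∀ k ∈ two a b, u * k * u⁻¹ ∈ two a b := fun k hk => by
  obtain ⟨h1, h2⟩ := mem_two.mp hk
  have hub := swap_back hC hu hua
  rw [hu.inv]
  exact mem_two.mpr ⟨by rw [mul_smul, mul_smul, hua, h2, hub], by rw [mul_smul, mul_smul, hub, h1, hua]⟩

/-- Normalisers in `G_a` of subgroups centralising `u` and two involutions at `a` lie in `S D`. -/
theorem normalizer_le_SD (ih : Below.{u, v} (Nat.card G)) (hb : b ≠ a) {u : G} (hu : IsInv u)
    (hua : u • a = b) {A : Subgroup G} (hz : ∃ z ∈ A, z ≠ 1 ∧ ∀ e ∈ A, e * z = z * e)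
    (hAu : ∀ x ∈ A, x * u = u * x) {i i' : G} (hi : IsInv i) (hia : i • a = a) (hiA : i ∈ cent A)
    (hi' : IsInv i') (hia' : i' • a = a) (hiA' : i' ∈ cent A) (hne : i ≠ i') {g : G} (hga : g • a = a)
    (hg : g ∈ Subgroup.normalizer (A : Set G)) : g ∈ S ⊔ two a b := by
  have hub := swap_back hC hu hua
  refine normalizer_le hC hi hia hiA hi' hia' hiA' hne hz ⟨u * i * u, ?_, ?_, ?_⟩ hb ih hga hg
  · have huc : u ∈ cent A := mem_cent.mpr hAu
    exact mul_mem (mul_mem huc hiA) huc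
  · have := hi.conj u
    rwa [hu.inv] at this
  · rw [mul_smul, mul_smul, hub, hia, hua]

variable (hB : PartB.{u, v}) (ih : Below.{u, v} (Nat.card G))
include hB ih

/-- Normalisers in `G_a` of the special subgroups of a `u`-invariant `p`-subgroup of `D` lie in `S D`. -/
theorem pcen_normalizer_le (hp2 : p ≠ 2) (hb : b ≠ a) {u : G} (hu : IsInv u) (hua : u • a = b)
    {R X : Subgroup G} (hR : IsPGroup p R) (hRD : R ≤ two a b) (huR : u ∈ Subgroup.normalizer (R : Set G))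
    (hXR : X ≤ R) (hX : X ≠ ⊥) (hXz : X ≤ cz a) (hn : ∀ r ∈ R, ∀ x ∈ X, r * x * r⁻¹ ∈ X) {g : G}
    (hga : g • a = a) (hg : g ∈ Subgroup.normalizer (X : Set G)) : g ∈ S ⊔ two a b := by
  have hAX : pcen p X ≤ X := fun x hx => hx.1
  have hAu := centralises hC hp2 hB ih hb hu hua hR hRD huR (hAX.trans hXR) (hAX.trans hXz)
    (fun r hr x hx => conj_mem_of_normalizer (normalizer_le_pcen (mem_normalizer_of_conj (hn r hr))) hx)
    (fun x hx => hx.2.2) (fun x hx y hy => (hy.2.1 x hx.1))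
  obtain ⟨z, hz, hz1⟩ := pcen_ne_bot (hR.to_le hXR) hX
  obtain ⟨i, i', hi, hia, hi', hia', hne⟩ := exists_two_at hC a
  refine normalizer_le_SD hC ih hb hu hua ⟨z, hz, hz1, fun e he => hz.2.1 e he.1⟩ hAu hi hia ?_ hi' hia' ?_ hne
    hga (normalizer_le_pcen hg)
  · exact mem_cent.mpr fun e he => ((mem_cz.mp (hXz he.1)).2 i hi hia).symm
  · exact mem_cent.mpr fun e he => ((mem_cz.mp (hXz he.1)).2 i' hi' hia').symm

/-- Step 5 of the blueprint. -/
theorem maxP_stab_of_dvd (hp2 : p ≠ 2) (hb : b ≠ a) {u : G} (hu : IsInv u) (hua : u • a = b)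
    {R : Subgroup G} (hR : MaxP p (two a b) R) (huR : u ∈ Subgroup.normalizer (R : Set G))
    (hdvd : p ∣ Nat.card ↥(two a b ⊓ cz (G := G) a)) : MaxP p (stabilizer G a) R := by
  obtain ⟨y, hy⟩ := exists_prime_orderOf_dvd_card' (G := ↥(two a b ⊓ cz a)) p hdvd
  set R0 := R ⊓ cz a with hR0
  have hR0ne : R0 ≠ ⊥ := by
    obtain ⟨Y, hYy, hY⟩ := exists_maxP (X := Subgroup.zpowers (y : G))
      (IsPGroup.of_card (n := 1) (by rw [Nat.card_zpowers, Subgroup.orderOf_coe, hy, pow_one]))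
      (Subgroup.zpowers_le.mpr y.2.1 : Subgroup.zpowers (y : G) ≤ two a b)
    obtain ⟨g, hg, hgY⟩ := hY.conj hR
    intro h
    have h1 : g * (y : G) * g⁻¹ ∈ R0 :=
      ⟨(hgY _).mp (hYy (Subgroup.mem_zpowers _)), stab_le_normalizer_cz hC (mem_two.mp hg).1 y.2.2⟩
    rw [h, Subgroup.mem_bot, conj_eq_one_iff] at h1
    rw [show y = 1 from Subtype.ext h1, orderOf_one] at hy
    exact (Fact.out : p.Prime).one_lt.ne hy
  have hRa : R ≤ stabilizer G a := hR.le.trans inf_le_left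
  have hn0 : ∀ {r : G}, r • a = a → r ∈ Subgroup.normalizer (R : Set G) →
      r ∈ Subgroup.normalizer (R0 : Set G) := fun {r} hr hrn => mem_normalizer_of_conj fun x hx =>
    ⟨conj_mem_of_normalizer hrn hx.1, stab_le_normalizer_cz hC hr hx.2⟩
  have hRn : ∀ r ∈ R, ∀ x ∈ R0, r * x * r⁻¹ ∈ R0 := fun r hr x hx =>
    conj_mem_of_normalizer (hn0 (mem_stabilizer_iff.mp (hRa hr)) (Subgroup.le_normalizer hr)) hx
  obtain ⟨P, hRP, hP⟩ := exists_maxP hR.isPGroup hRa
  have hT : P ⊓ Subgroup.normalizer (R0 : Set G) = R := by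
    refine eq_of_le_SD hC hp2 hb hR (hP.isPGroup.to_le inf_le_left) (fun g hg => ?_)
      (le_inf hRP fun r hr => mem_normalizer_of_conj (hRn r hr))
    exact pcen_normalizer_le hC hB ih hp2 hb hu hua hR.isPGroup hR.le huR inf_le_left hR0ne inf_le_right hRn
      (mem_stabilizer_iff.mp (hP.le hg.1)) hg.2
  have hQ : P ⊓ cz a = R0 := by
    refine ((inf_le_inf_right _ hRP).eq_or_lt.resolve_right fun hlt => ?_).symm
    obtain ⟨g, hg, hgR, hgn⟩ := exists_mem_normalizer (hP.isPGroup.to_le inf_le_left) hlt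
    exact hgR ⟨hT.le ⟨hg.1, hgn⟩, hg.2⟩
  have hPn : P ≤ Subgroup.normalizer (R0 : Set G) := fun g hg => mem_normalizer_of_conj fun x hx => by
    rw [← hQ] at hx ⊢
    exact ⟨P.mul_mem (P.mul_mem hg hx.1) (P.inv_mem hg),
      stab_le_normalizer_cz hC (mem_stabilizer_iff.mp (hP.le hg)) hx.2⟩
  rw [inf_eq_left.mpr hPn] at hT
  exact hT ▸ hP

/-- The transfer kills the case without `p`-elements in `D`. -/
theorem trans_of_free (hb : b ≠ a) (hpD : ¬ p ∣ Nat.card (two a b : Subgroup G)) {g : G}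
    (hga : g • a = a) (hgp : ∃ k : ℕ, g ^ p ^ k = 1) (hgcz : g ∉ cz (G := G) a)
    (hgi : ∃ i : G, IsInv i ∧ i • a = a ∧ i * g = g * i) : Trans a S := by
  classical
  haveI : Fact (Nat.Prime 2) := ⟨Nat.prime_two⟩
  haveI := hC.trans
  set H := stabilizer G a
  obtain ⟨A, instA, finA, θ, hA, hθ⟩ := exists_abelian_quotient hC
  have hfix : ∀ x : G, (∃ k : ℕ, x ^ p ^ k = 1) → x • a = a → ∀ c : Ω, x • c = c → c ≠ a → x = 1 := by
    rintro x ⟨k, hk⟩ hxa c hxc hca
    obtain ⟨h, hh, hhb⟩ := transitive_stab hC hb hca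
    have hy : h⁻¹ * x * h ∈ two a b := mem_two.mpr ⟨by rw [mul_smul, mul_smul, hh, hxa, inv_smul_eq_iff, hh],
      by rw [mul_smul, mul_smul, hhb, hxc, inv_smul_eq_iff, hhb]⟩
    have h1 := Subgroup.orderOf_dvd_natCard _ hy
    rw [show h⁻¹ * x * h = h⁻¹ * x * (h⁻¹)⁻¹ by rw [inv_inv], CfsgLib.Involutions.orderOf_conj] at h1
    by_contra hne
    obtain ⟨j, -, hj⟩ := (Nat.dvd_prime_pow Fact.out).mp (orderOf_dvd_of_pow_eq_one hk)
    refine hpD ((dvd_pow_self p (show j ≠ 0 from fun e => hne ?_)).trans (hj ▸ h1))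
    rw [e, pow_zero] at hj
    exact orderOf_eq_one_iff.mp hj
  obtain ⟨k0, hk0⟩ := hgp
  have hg1 : g ≠ 1 := fun e => hgcz (e ▸ one_mem _)
  have htr : MonoidHom.transfer θ g = θ ⟨g, mem_stabilizer_iff.mpr hga⟩ := by
    haveI : Fintype (Quotient (orbitRel (Subgroup.zpowers g) (G ⧸ H))) := Fintype.ofFinite _
    rw [MonoidHom.transfer_eq_prod_quotient_orbitRel_zpowers_quot]
    set base : Quotient (orbitRel (Subgroup.zpowers g) (G ⧸ H)) := Quotient.mk _ ((1 : G) : G ⧸ H)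
    have hbase : ∀ c : G ⧸ H, c = ((1 : G) : G ⧸ H) ↔ c.out • a = a := fun c => by
      conv_lhs => rw [← QuotientGroup.out_eq' c]
      rw [QuotientGroup.eq, mul_one, mem_stabilizer_iff, inv_smul_eq_iff, eq_comm]
    rw [Finset.prod_eq_single base]
    · have hfixq : ∀ z : Subgroup.zpowers g, z • ((1 : G) : G ⧸ H) = ((1 : G) : G ⧸ H) := fun z => by
        show (((z : G) * 1 : G) : G ⧸ H) = ((1 : G) : G ⧸ H)
        rw [mul_one, QuotientGroup.eq, mul_one]
        exact inv_mem (Subgroup.zpowers_le.mpr (mem_stabilizer_iff.mpr hga) z.2)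
      have hout : base.out = ((1 : G) : G ⧸ H) := by
        obtain ⟨z, hz⟩ := MulAction.orbitRel_apply.mp (Quotient.mk_out (s := orbitRel (Subgroup.zpowers g) (G ⧸ H))
          ((1 : G) : G ⧸ H))
        exact hz.symm.trans (hfixq z)
      have hper : Function.minimalPeriod (g • ·) base.out = 1 := by
        rw [hout, Function.minimalPeriod_eq_one_iff_isFixedPt]
        exact hfixq ⟨g, Subgroup.mem_zpowers g⟩
      have hcH : base.out.out ∈ H := mem_stabilizer_iff.mpr ((hbase _).mp hout)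
      refine (congrArg θ (show _ = (⟨base.out.out, hcH⟩ : H)⁻¹ * ⟨g, mem_stabilizer_iff.mpr hga⟩ *
        ⟨base.out.out, hcH⟩ from Subtype.ext (by
          show base.out.out⁻¹ * g ^ _ * base.out.out = _
          rw [hper, pow_one]; rfl))).trans ?_
      rw [map_mul, map_mul, map_inv, mul_comm, mul_inv_cancel_left]
    · intro q _ hq
      rw [← map_one θ]
      refine congrArg θ (Subtype.ext ?_)
      show q.out.out⁻¹ * g ^ Function.minimalPeriod (g • ·) q.out * q.out.out = 1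
      set n := Function.minimalPeriod (g • ·) q.out
      have hmem := QuotientGroup.out_conj_pow_minimalPeriod_mem H g q.out
      have h1 : (g ^ n) • q.out.out • a = q.out.out • a := by
        have h := mem_stabilizer_iff.mp hmem
        rwa [mul_smul, mul_smul, inv_smul_eq_iff] at h
      have hne : q.out.out • a ≠ a := fun e => hq (by
        rw [← Quotient.out_eq q]
        exact congrArg (Quotient.mk _) ((hbase _).mpr e))
      rw [hfix (g ^ n) ⟨k0, by rw [← pow_mul, mul_comm, pow_mul, hk0, one_pow]⟩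
        (mem_stabilizer_iff.mp (pow_mem (mem_stabilizer_iff.mpr hga) n)) _ h1 hne, mul_one, inv_mul_cancel]
    · exact fun h => absurd (Finset.mem_univ base) h
  set τ := MonoidHom.transfer θ
  have hne : τ g ≠ 1 := fun h => by
    obtain ⟨i, hi, hia, hic⟩ := hgi
    exact hθ ⟨g, mem_stabilizer_iff.mpr hga⟩ (htr.symm.trans h) hgcz i hi hia hic
  have htwo : ∀ x : G, (∃ k : ℕ, x ^ 2 ^ k = 1) → x ∈ τ.ker := by
    rintro x ⟨k, hk⟩
    rw [MonoidHom.mem_ker, ← orderOf_eq_one_iff]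
    exact Nat.Coprime.eq_one_of_dvd
      (((Nat.coprime_two_right.mpr hA).pow_right k).coprime_dvd_left (orderOf_dvd_natCard (τ x)))
      (orderOf_dvd_of_pow_eq_one (by rw [← map_pow, hk, map_one]))
  have hinv : ∀ x : G, IsInv x → x ∈ τ.ker := fun x hx => htwo x ⟨1, by rw [pow_one, pow_two, hx.2]⟩
  have hSK : S ≤ τ.ker := fun x hx => htwo x (by
    obtain ⟨k, hk⟩ := hC.two_group ⟨x, hx⟩
    exact ⟨k, congrArg Subtype.val hk⟩)
  have hlt : Nat.card τ.ker < Nat.card G := by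
    refine lt_of_le_of_ne (Subgroup.card_le_card_group _) fun e => hne ?_
    exact MonoidHom.mem_ker.mp ((Subgroup.card_eq_iff_eq_top τ.ker).mp e ▸ Subgroup.mem_top g)
  have hinvK : ∀ {x : τ.ker}, IsInv x → IsInv (x : G) := fun {x} hx =>
    ⟨fun e => hx.1 (Subtype.ext e), congrArg Subtype.val hx.2⟩
  have hcl : Closed τ.ker Ω a (S.subgroupOf τ.ker) := by
    refine ⟨⟨fun c d => ?_⟩, fun x hx => hC.one_fix (x : G) (hinvK hx), ?_, ?_, ?_, hC.two_group.comap_subtype, ?_⟩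
    · rcases eq_or_ne c d with rfl | hcd
      · exact ⟨1, one_smul _ _⟩
      obtain ⟨⟨u, hu, huc⟩⟩ := exists_swap hC hcd
      exact ⟨⟨u, hinv u hu⟩, huc⟩
    · obtain ⟨x, y, hx1, hy1, hxy, hx2, hy2, hcom⟩ := hC.four
      exact ⟨⟨x, hinv x ⟨hx1, hx2⟩⟩, ⟨y, hinv y ⟨hy1, hy2⟩⟩, fun e => hx1 (congrArg Subtype.val e),
        fun e => hy1 (congrArg Subtype.val e), fun e => hxy (congrArg Subtype.val e), Subtype.ext hx2,
        Subtype.ext hy2, Subtype.ext hcom⟩
    · exact fun x hx => mem_stabilizer_iff.mpr (smul_a hC hx)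
    · exact fun h hh x hx => hC.conj (h : G) hh (x : G) hx
    · rintro x hx ⟨k, hk⟩
      exact hC.two_mem (x : G) hx ⟨k, congrArg Subtype.val hk⟩
  intro c d hc hd
  obtain ⟨x, hx, hxc⟩ := ih τ.ker Ω a _ hcl hlt c d hc hd
  exact ⟨x, hx, hxc⟩

omit [Fact p.Prime] in
/-- Step 6: unless `S` is transitive, `G_a = C D`. -/
theorem stab_le_cz_sup (hb : b ≠ a) (hnT : ¬ Trans a S) : stabilizer G a ≤ cz a ⊔ two a b := by
  set H := stabilizer G a
  set K := cz (G := G) a ⊔ two a b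
  have hKH : K ≤ H := sup_le inf_le_left inf_le_left
  by_contra hHK
  have hri : K.relIndex H ≠ 1 := fun h => hHK (Subgroup.relIndex_eq_one.mp h)
  obtain ⟨r, hr, hrd⟩ := Nat.exists_prime_and_dvd hri
  haveI := Fact.mk hr
  have hmax : ∀ {P : Subgroup G}, MaxP r H P → ¬ P ≤ K := by
    intro P hP hle
    have hc : Nat.card K * K.relIndex H = Nat.card H := by
      rw [Subgroup.relIndex, ← Nat.card_congr (Subgroup.subgroupOfEquivOfLe hKH).toEquiv, mul_comm]
      exact Subgroup.index_mul_card (K.subgroupOf H)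
    refine Nat.pow_succ_factorization_not_dvd (n := Nat.card H) (p := r) Nat.card_pos.ne' hr ?_
    rw [pow_succ, ← hP.card]
    exact hc ▸ Nat.mul_dvd_mul (Subgroup.card_dvd_of_le hle) hrd
  obtain ⟨⟨u, hu, hua⟩⟩ := exists_swap hC hb.symm
  have hub := swap_back hC hu hua
  have hr2 : r ≠ 2 := by
    rintro rfl
    obtain ⟨P, -, hP⟩ := exists_maxP (p := 2) (IsPGroup.of_bot) (bot_le : ⊥ ≤ H)
    refine hmax hP fun x hx => Subgroup.mem_sup_left (S_le_cz hC (hC.two_mem x
      (mem_stabilizer_iff.mp (hP.le hx)) ?_))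
    obtain ⟨k, hk⟩ := hP.isPGroup ⟨x, hx⟩
    exact ⟨k, congrArg Subtype.val hk⟩
  have hrm : ¬ r ∣ Nat.card (InvAt G a) := fun h => by
    obtain ⟨R, hR, hRa, -⟩ := sylow_fixed hC hr2 h hb
    exact hmax hRa (hR.le.trans le_sup_right)
  have hDodd : Odd (Nat.card (two a b : Subgroup G)) := odd_two hC hb.symm
  obtain ⟨R, hR, huR⟩ := exists_invariant_maxP (p := r) hDodd hu.2 (swap_conj_two hC hb hu hua)
  have hrE : ¬ r ∣ Nat.card ↥(two a b ⊓ cz a) := fun h =>
    hmax (maxP_stab_of_dvd hC hB ih hr2 hb hu hua hR huR h) (hR.le.trans le_sup_right)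
  obtain ⟨P, hRP, hP⟩ := exists_maxP hR.isPGroup (hR.le.trans inf_le_left : R ≤ H)
  have hPK := hmax hP
  rcases eq_or_ne R ⊥ with hR0 | hR0
  · obtain ⟨g, hg, hgK⟩ := SetLike.not_le_iff_exists.mp hPK
    have hrD : ¬ r ∣ Nat.card (two a b : Subgroup G) := fun h => by
      have h1 : 1 ≤ (Nat.card (two a b : Subgroup G)).factorization r :=
        (hr.pow_dvd_iff_le_factorization Nat.card_pos.ne').mp (by rwa [pow_one])
      have h2 := hR.card
      rw [hR0, Subgroup.card_bot] at h2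
      have h3 := Nat.one_lt_pow (show (Nat.card (two a b : Subgroup G)).factorization r ≠ 0 by omega) hr.one_lt
      omega
    obtain ⟨i, hi, hia, hiP⟩ : ∃ i : G, IsInv i ∧ i • a = a ∧ i ∈ cent P := by
      by_contra hcon
      push Not at hcon
      haveI : IsEmpty {x : G // IsInv x ∧ x • a = a ∧ x ∈ cent P} := ⟨fun x => hcon x x.2.1 x.2.2.1 x.2.2.2⟩
      have h := invAt_modEq hC hP.isPGroup hP.le
      rw [Nat.card_of_isEmpty (α := {x : G // IsInv x ∧ x • a = a ∧ x ∈ cent P})] at h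
      exact hrm (Nat.modEq_zero_iff_dvd.mp h)
    obtain ⟨k, hk⟩ := hP.isPGroup ⟨g, hg⟩
    exact hnT (trans_of_free hC hB ih (p := r) hb hrD (mem_stabilizer_iff.mp (hP.le hg))
      ⟨k, congrArg Subtype.val hk⟩ (fun h => hgK (Subgroup.mem_sup_left h))
      ⟨i, hi, hia, (hiP g hg).symm⟩)
  · have hRu : ∀ x ∈ R, x * u = u * x := by
      intro x hx
      by_contra hne
      have hxu : u * x * u ∈ R := by
        have h := conj_mem_of_normalizer huR hx
        rwa [hu.inv] at h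
      set y := x⁻¹ * (u * x * u) with hy
      have hyR : y ∈ R := mul_mem (inv_mem hx) hxu
      have hy1 : y ≠ 1 := fun e => hne (by
        have h1 : x = u * x * u := inv_mul_eq_one.mp e
        calc x * u = u * x * u * u := by rw [← h1]
          _ = u * x := by rw [mul_assoc, hu.2, mul_one])
      have hinv : u * y * u = y⁻¹ := by
        calc u * (x⁻¹ * (u * x * u)) * u = u * x⁻¹ * u * x * (u * u) := by group
          _ = u⁻¹ * x⁻¹ * u⁻¹ * x := by rw [hu.2, mul_one, hu.inv]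
          _ = (x⁻¹ * (u * x * u))⁻¹ := by group
      have hodd := inverted_oddCent hC hu hinv hy1 (odd_orderOf hDodd (hR.le hyR))
      haveI : IsEmpty {j : G // IsInv j ∧ j • a = a ∧ j ∈ cent (Subgroup.zpowers y)} :=
        ⟨fun j => hodd j (fun e he => j.2.2.2 e he) j.2.1⟩
      have hle : Subgroup.zpowers y ≤ R := Subgroup.zpowers_le.mpr hyR
      have h := invAt_modEq hC (hR.isPGroup.to_le hle) (hle.trans (hR.le.trans inf_le_left))
      rw [Nat.card_of_isEmpty (α := {j : G // IsInv j ∧ j • a = a ∧ j ∈ cent (Subgroup.zpowers y)})] at h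
      exact hrm (Nat.modEq_zero_iff_dvd.mp h)
    obtain ⟨i, i', hi, hia, hiR, hi', hia', hiR', hne⟩ := exists_two_cent hC hrm hRP hP.isPGroup hP.le
      fun h => hPK (h.trans (sup_le (hR.le.trans le_sup_right) le_sup_left))
    obtain ⟨z, hz, hz1⟩ := pcen_ne_bot hR.isPGroup hR0
    rcases hRP.eq_or_lt with rfl | hlt
    · exact hPK (hR.le.trans le_sup_right)
    obtain ⟨g, hg, hgR, hgn⟩ := exists_mem_normalizer hP.isPGroup hlt
    refine hgR ?_
    have hT : P ⊓ Subgroup.normalizer (R : Set G) = R :=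
      eq_of_le_SD hC hr2 hb hR (hP.isPGroup.to_le inf_le_left) (fun x hx =>
        normalizer_le_SD hC ih hb hu hua ⟨z, hz.1, hz1, hz.2.1⟩ hRu hi hia hiR hi' hia' hiR' hne
          (mem_stabilizer_iff.mp (hP.le hx.1)) hx.2)
        (le_inf hRP Subgroup.le_normalizer)
    exact hT.le ⟨hg, hgn⟩

omit [Fact p.Prime] in
/-- Step 7: the induction step. -/
theorem trans_step : Trans a S := by
  haveI : Fact (Nat.Prime 2) := ⟨Nat.prime_two⟩
  by_contra hnT
  obtain ⟨b, hb⟩ := exists_ne hC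
  have hHK := stab_le_cz_sup hC hB ih hb hnT
  obtain ⟨⟨u, hu, hua⟩⟩ := exists_swap hC hb.symm
  set H := stabilizer G a with hH
  set D : Subgroup G := two a b with hD
  set E := D ⊓ cz (G := G) a with hE
  have hDodd : Odd (Nat.card D) := odd_two hC hb.symm
  obtain ⟨M, hSM, hM⟩ := Finite.exists_le_maximal
    (p := fun M : Subgroup G => M ≤ cz (G := G) a ∧ (∀ h ∈ H, ∀ x ∈ M, h * x * h⁻¹ ∈ M) ∧
      (Nat.card M).Coprime (Nat.card E)) (a := S)
    ⟨S_le_cz hC, fun h hh x hx => hC.conj h (mem_stabilizer_iff.mp hh) x hx, by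
      obtain ⟨k, hk⟩ := IsPGroup.iff_card.mp hC.two_group
      rw [hk]
      exact (Nat.coprime_two_left.mpr (hDodd.of_dvd_nat (Subgroup.card_dvd_of_le inf_le_left))).pow_left k⟩
  obtain ⟨hMz, hMn, hMco⟩ := hM.prop
  have hMH : M ≤ H := hMz.trans inf_le_left
  have hMD : ∀ x ∈ M, x • b = b → x = 1 := fun x hx hxb => by
    have hxE : x ∈ E := ⟨mem_two.mpr ⟨mem_stabilizer_iff.mp (hMH hx), hxb⟩, hMz hx⟩
    exact orderOf_eq_one_iff.mp
      (Nat.eq_one_of_dvd_coprimes hMco (Subgroup.orderOf_dvd_natCard M hx) (Subgroup.orderOf_dvd_natCard E hxE))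
  by_cases hsup : H ≤ M ⊔ D
  · have htr : ∀ c : Ω, c ≠ a → ∃ x ∈ M, x • b = c := by
      intro c hc
      obtain ⟨h, hh, hhb⟩ := transitive_stab hC hb hc
      have hn : M ⊔ D ≤ H := sup_le hMH inf_le_left
      have hDn : D ≤ Subgroup.normalizer (M : Set G) := fun d hd =>
        mem_normalizer_of_conj (hMn d hd.1)
      have hmem : h ∈ M ⊔ D := hsup (mem_stabilizer_iff.mpr hh)
      rw [← SetLike.mem_coe, Subgroup.coe_mul_of_right_le_normalizer_left _ _ hDn] at hmem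
      obtain ⟨x, hx, d, hd, rfl⟩ := Set.mem_mul.mp hmem
      exact ⟨x, hx, by rwa [mul_smul, (mem_two.mp hd).2] at hhb⟩
    have hS := setup hC hb hu hua hSM hMH (fun h hh x hx => hMn h (mem_stabilizer_iff.mpr hh) x hx) hMD htr
    obtain ⟨hM2, -, -⟩ := hB G Ω a u M hS hC.four
    have hMS : M ≤ S := fun x hx => hC.two_mem x (mem_stabilizer_iff.mp (hMH hx)) (by
      obtain ⟨k, hk⟩ := hM2 ⟨x, hx⟩
      exact ⟨k, congrArg Subtype.val hk⟩)
    refine hnT fun c d hc hd => ?_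
    obtain ⟨x, hx, rfl⟩ := htr c hc
    obtain ⟨y, hy, rfl⟩ := htr d hd
    exact ⟨y * x⁻¹, mul_mem (hMS hy) (inv_mem (hMS hx)), by rw [mul_smul, inv_smul_smul]⟩
  -- a normal section of prime power order over `M`
  set MH := M.subgroupOf H with hMHdef
  set CH := (cz (G := G) a).subgroupOf H with hCHdef
  haveI : MH.Normal := ⟨fun x hx h => hMn h h.2 x hx⟩
  haveI : CH.Normal := ⟨fun x hx h => stab_le_normalizer_cz hC (mem_stabilizer_iff.mp h.2) hx⟩
  set π := QuotientGroup.mk' MH with hπ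
  have hodd : Odd (Nat.card (H ⧸ MH)) := by
    rw [← Subgroup.card_top]
    refine odd_card_of_forall fun x _ hx => ?_
    obtain ⟨g, rfl⟩ := QuotientGroup.mk'_surjective MH x
    obtain ⟨k, l, hl, he⟩ := Nat.exists_eq_two_pow_mul_odd (orderOf_pos g).ne'
    have hgS : ((g : G)) ^ l ∈ S := hC.two_mem _
      (mem_stabilizer_iff.mp (pow_mem g.2 l)) ⟨k, by
        rw [← pow_mul, mul_comm, ← he, ← Subgroup.orderOf_coe g, pow_orderOf_eq_one]⟩
    have h1 : π g ^ l = 1 := by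
      rw [← map_pow]
      exact (QuotientGroup.eq_one_iff _).mpr (Subgroup.mem_subgroupOf.mpr
        (by rw [SubmonoidClass.coe_pow]; exact hSM hgS))
    obtain ⟨n, rfl⟩ := hl
    rw [pow_succ, pow_mul, pow_two, hx.2, one_pow, one_mul] at h1
    exact hx.1 h1
  haveI hsolQ : Group.IsSolvable (H ⧸ MH) := Cfsg.Agent.S0205.result hodd
  haveI : (CH.map π).Normal := Subgroup.Normal.map inferInstance _ (QuotientGroup.mk'_surjective MH)
  haveI : Group.IsSolvable (CH.map π) := Group.isSolvable_of_isSolvable_injective (Subgroup.subtype_injective _)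
  have hne : CH.map π ≠ ⊥ := fun h => hsup (hHK.trans (sup_le_sup_right (fun x hx => by
    have hxH : x ∈ H := (inf_le_left : cz (G := G) a ≤ H) hx
    have h1 : π ⟨x, hxH⟩ ∈ CH.map π := ⟨⟨x, hxH⟩, hx, rfl⟩
    rw [h, Subgroup.mem_bot] at h1
    exact Subgroup.mem_subgroupOf.mp ((QuotientGroup.eq_one_iff (⟨x, hxH⟩ : H)).mp h1)) _))
  obtain ⟨q, A0, hq, hA0n, hA0le, hA0ne, hA0p⟩ := exists_normal_qgroup (CH.map π) hne
  haveI := Fact.mk hq
  set Y := (A0.comap π).map H.subtype with hY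
  have hYH : Y ≤ H := Subgroup.map_subtype_le _
  have hMY : M ≤ Y := fun x hx => ⟨⟨x, hMH hx⟩, Subgroup.mem_comap.mpr (by
    rw [show π ⟨x, hMH hx⟩ = 1 from (QuotientGroup.eq_one_iff _).mpr hx]; exact one_mem _), rfl⟩
  have hYz : Y ≤ cz (G := G) a := by
    rintro _ ⟨x, hx, rfl⟩
    obtain ⟨y, hy, he⟩ := hA0le hx
    have h1 : y⁻¹ * x ∈ MH := QuotientGroup.eq.mp he
    have h2 := mul_mem (show (y : G) ∈ cz (G := G) a from hy) (hMz (Subgroup.mem_subgroupOf.mp h1))
    simpa using h2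
  have hYn : ∀ h ∈ H, ∀ x ∈ Y, h * x * h⁻¹ ∈ Y := by
    rintro h hh _ ⟨x, hx, rfl⟩
    refine ⟨⟨h, hh⟩ * x * ⟨h, hh⟩⁻¹, Subgroup.mem_comap.mpr ?_, rfl⟩
    rw [map_mul, map_mul, map_inv]
    exact hA0n.conj_mem _ hx _
  have hcardY : Nat.card Y = Nat.card M * Nat.card A0 := by
    rw [hY, Subgroup.card_map_of_injective H.subtype_injective]
    have h1 := Subgroup.index_mul_card (MH.subgroupOf (A0.comap π))
    have hle : MH ≤ A0.comap π := fun x hx => Subgroup.mem_comap.mpr (by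
      rw [show π x = 1 from (QuotientGroup.eq_one_iff _).mpr hx]; exact one_mem _)
    rw [Nat.card_congr (Subgroup.subgroupOfEquivOfLe hle).toEquiv,
      show Nat.card MH = Nat.card M from Nat.card_congr (Subgroup.subgroupOfEquivOfLe hMH).toEquiv] at h1
    rw [← h1, mul_comm]
    congr 1
    have h2 : (MH.subgroupOf (A0.comap π)).index = MH.relIndex (A0.comap π) := rfl
    have h3 : π.ker.relIndex (A0.comap π) = (⊥ : Subgroup (H ⧸ MH)).relIndex A0 := by
      rw [← MonoidHom.comap_bot, Subgroup.relIndex_comap,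
        Subgroup.map_comap_eq_self_of_surjective (QuotientGroup.mk'_surjective MH)]
    have h4 : π.ker = MH := QuotientGroup.ker_mk' MH
    rw [h4, Subgroup.relIndex_bot_left] at h3
    rw [h2, h3]
  obtain ⟨k, hk⟩ := IsPGroup.iff_card.mp hA0p
  have hk0 : k ≠ 0 := fun e => hA0ne (Subgroup.card_eq_one.mp (by rw [hk, e, pow_zero]))
  have hqE : q ∣ Nat.card E := by
    by_contra hqE
    have hco : (Nat.card Y).Coprime (Nat.card E) := by
      rw [hcardY, hk]
      exact hMco.mul_left (((hq.coprime_iff_not_dvd).mpr hqE).pow_left k)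
    have h1 := hM.2 ⟨hYz, hYn, hco⟩ hMY
    have h2 : Nat.card Y ≤ Nat.card M := Nat.le_of_dvd Nat.card_pos (Subgroup.card_dvd_of_le h1)
    rw [hcardY, hk] at h2
    have h3 : 1 < q ^ k := Nat.one_lt_pow hk0 hq.one_lt
    have h4 : 0 < Nat.card M := Nat.card_pos
    nlinarith
  have hq2 : q ≠ 2 := by
    rintro rfl
    exact Nat.not_even_iff_odd.mpr (hDodd.of_dvd_nat (Subgroup.card_dvd_of_le inf_le_left))
      (even_iff_two_dvd.mpr hqE)
  obtain ⟨R, hR, huR⟩ := exists_invariant_maxP (p := q) hDodd hu.2 (swap_conj_two hC hb hu hua)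
  have hRH := maxP_stab_of_dvd hC hB ih hq2 hb hu hua hR huR hqE
  set X := R ⊓ Y with hX
  have hXmax : MaxP q Y X := by
    obtain ⟨Z, hXZ, hZ⟩ := exists_maxP (hR.isPGroup.to_le inf_le_left) (inf_le_right : X ≤ Y)
    obtain ⟨P, hZP, hP⟩ := exists_maxP hZ.isPGroup (hZ.le.trans hYH)
    obtain ⟨g, hg, hgP⟩ := hP.conj hRH
    have hle : Z.map (MulAut.conj g).toMonoidHom ≤ X := by
      rintro _ ⟨z, hz, rfl⟩
      exact ⟨(hgP z).mp (hZP hz), hYn g hg z (hZ.le hz)⟩
    have h1 := Nat.le_of_dvd Nat.card_pos (Subgroup.card_dvd_of_le hle)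
    rw [Subgroup.card_map_of_injective (MulAut.conj g).injective] at h1
    rw [show X = Z from Subgroup.eq_of_le_of_card_ge hXZ h1]
    exact hZ
  have hMq : ¬ q ∣ Nat.card M := fun h => hq.not_dvd_one (hMco ▸ Nat.dvd_gcd h hqE)
  have hXcard : Nat.card X = q ^ k := by
    rw [hXmax.card, hcardY, hk, Nat.factorization_mul Nat.card_pos.ne' (pow_ne_zero _ hq.ne_zero),
      Finsupp.add_apply, Nat.factorization_eq_zero_of_not_dvd hMq, zero_add, Nat.Prime.factorization_pow hq,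
      Finsupp.single_eq_same]
  have hYMX : Y = M ⊔ X := by
    refine (Subgroup.eq_of_le_of_card_ge (sup_le hMY inf_le_right) (Nat.le_of_dvd Nat.card_pos ?_)).symm
    rw [hcardY, hk]
    refine Nat.Coprime.mul_dvd_of_dvd_of_dvd (((hq.coprime_iff_not_dvd).mpr hMq).pow_left k).symm
      (Subgroup.card_dvd_of_le le_sup_left) ?_
    rw [← hXcard]
    exact Subgroup.card_dvd_of_le le_sup_right
  have hXne : X ≠ ⊥ := fun e => by
    rw [e, Subgroup.card_bot] at hXcard
    exact (Nat.one_lt_pow hk0 hq.one_lt).ne hXcard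
  have hXn : ∀ r ∈ R, ∀ x ∈ X, r * x * r⁻¹ ∈ X := fun r hr x hx =>
    ⟨R.mul_mem (R.mul_mem hr hx.1) (R.inv_mem hr), hYn r (hR.le hr).1 x hx.2⟩
  have hYle : Y ≤ M ⊔ D := hYMX ▸ sup_le le_sup_left (inf_le_left.trans (hR.le.trans le_sup_right))
  refine hsup fun h hh => ?_
  have hXh : MaxP q Y (X.map (MulAut.conj h).toMonoidHom) := by
    refine maxP_of_card (hXmax.isPGroup.map _) ?_ ?_
    · rintro _ ⟨x, hx, rfl⟩
      exact hYn h hh x hx.2
    · rw [Subgroup.card_map_of_injective (MulAut.conj h).injective, hXmax.card]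
  obtain ⟨y, hy, hyX⟩ := hXh.conj hXmax
  have hyn : y * h ∈ Subgroup.normalizer (X : Set G) := mem_normalizer_of_conj fun x hx => by
    have := (hyX _).mp ⟨x, hx, rfl⟩
    simpa [mul_assoc] using this
  have hyh : y * h ∈ S ⊔ D := pcen_normalizer_le hC hB ih hq2 hb hu hua hR.isPGroup hR.le huR inf_le_left hXne
    (inf_le_right.trans hYz) hXn (mem_stabilizer_iff.mp (mul_mem (hYH hy) hh)) hyn
  rw [show h = y⁻¹ * (y * h) by group]
  exact mul_mem (inv_mem (hYle hy)) (sup_le_sup_right hSM D hyh)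

omit hC hB ih in
/-- Bender's theorem, part A, for a 2-closed point stabiliser. -/
theorem trans (hB : PartB.{u, v}) {G : Type u} {Ω : Type v} [Group G] [Finite G] [MulAction G Ω]
    [FaithfulSMul G Ω] {a : Ω} {S : Subgroup G} (hC : Closed G Ω a S) : Trans a S := by
  have key : ∀ n : ℕ, ∀ (G : Type u) (Ω : Type v) [Group G] [Finite G] [MulAction G Ω] [FaithfulSMul G Ω]
      (a : Ω) (S : Subgroup G), Closed G Ω a S → Nat.card G = n → Trans a S := by
    intro n
    induction n using Nat.strong_induction_on with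
    | _ n ih =>
      intro G Ω _ _ _ _ a S hC hn
      exact trans_step hC hB (fun G' Ω' _ _ _ _ a' S' hC' hlt => ih _ (hn ▸ hlt) G' Ω' a' S' hC' rfl)
  exact key _ G Ω a S hC rfl

omit hC hB ih in
/-- The resulting rank one set-up. -/
theorem exists_setup (hB : PartB.{u, v}) {G : Type u} {Ω : Type v} [Group G] [Finite G] [MulAction G Ω]
    [FaithfulSMul G Ω] {a : Ω} {S : Subgroup G} (hC : Closed G Ω a S) :
    ∃ t : G, IsRankOneSetup G Ω a t S := by
  obtain ⟨b, hb⟩ := exists_ne hC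
  obtain ⟨⟨u, hu, hua⟩⟩ := exists_swap hC hb.symm
  exact ⟨u, setup hC hb hu hua le_rfl hC.le hC.conj (fun x hx hxb => eq_one_of_fix hC hx hxb hb)
    (fun c hc => trans hB hC b c hb hc)⟩

end CfsgLib.Bender.TwoClosed
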