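import Cfsg.Agent.Lib.Bender.TwoClosed.Basic

/-!
The centraliser of a subgroup fixing points, acting on the centres of its involutions.

Blueprint: `blueprint/bender/A_TwoClosed.md`, step 3.
-/

set_option autoImplicit false
set_option linter.unusedSectionVars false
set_option linter.style.haveILetI false

namespace CfsgLib.Bender.TwoClosed

open MulAction Cfsg CfsgLib.SuzukiRankOne

universe u v

/-- Part B of Bender's theorem, as a hypothesis. -/
def PartB : Prop :=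
  ∀ (G : Type u) (Ω : Type v) [Group G] [Finite G] [MulAction G Ω] [FaithfulSMul G Ω] (a : Ω) (t : G)
    (Q : Subgroup G), IsRankOneSetup G Ω a t Q → Four G → Concl a t Q

/-- The induction hypothesis below the order `n`. -/
def Below (n : ℕ) : Prop :=
  ∀ (G : Type u) (Ω : Type v) [Group G] [Finite G] [MulAction G Ω] [FaithfulSMul G Ω] (a : Ω)
    (S : Subgroup G), Closed G Ω a S → Nat.card G < n → Trans a S

variable {G : Type u} {Ω : Type v} [Group G] [MulAction G Ω] {a : Ω} {S : Subgroup G}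

/-- The centraliser of a subgroup. -/
abbrev cent (A : Subgroup G) : Subgroup G := Subgroup.centralizer (A : Set G)

/-- The centres of the involutions centralising `A`. -/
abbrev Phi (Ω : Type v) [MulAction G Ω] (A : Subgroup G) : Type v :=
  {c : Ω // ∃ x ∈ cent A, IsInv x ∧ x • c = c}

theorem mem_cent {A : Subgroup G} {g : G} : g ∈ cent A ↔ ∀ e ∈ A, e * g = g * e := Iff.rfl

theorem smul_phi {A : Subgroup G} (g : cent A) (c : Phi Ω A) :
    ∃ x ∈ cent A, IsInv x ∧ x • (g : G) • (c : Ω) = (g : G) • (c : Ω) := by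
  obtain ⟨x, hx, hi, hc⟩ := c.2
  exact ⟨g * x * (g : G)⁻¹, mul_mem (mul_mem g.2 hx) (inv_mem g.2), hi.conj g, smul_conj hc⟩

instance phiAction (A : Subgroup G) : MulAction (cent A) (Phi Ω A) where
  smul g c := ⟨(g : G) • (c : Ω), smul_phi g c⟩
  one_smul c := Subtype.ext (one_smul G (c : Ω))
  mul_smul g g' c := Subtype.ext (mul_smul (g : G) (g' : G) (c : Ω))

/-- The action on the centres. -/
abbrev phiHom (Ω : Type v) [MulAction G Ω] (A : Subgroup G) : cent A →* Equiv.Perm (Phi Ω A) :=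
  MulAction.toPermHom (cent A) (Phi Ω A)

/-- The centraliser modulo the kernel on the centres. -/
abbrev Bar (Ω : Type v) [MulAction G Ω] (A : Subgroup G) : Type u := cent A ⧸ (phiHom Ω A).ker

/-- The projection to the quotient. -/
abbrev toBar (Ω : Type v) [MulAction G Ω] (A : Subgroup G) : cent A →* Bar Ω A := QuotientGroup.mk' _

instance barAction (A : Subgroup G) : MulAction (Bar Ω A) (Phi Ω A) :=
  MulAction.compHom (Phi Ω A) (QuotientGroup.kerLift (phiHom Ω A))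

instance barFaithful (A : Subgroup G) : FaithfulSMul (Bar Ω A) (Phi Ω A) :=
  ⟨fun {x y} h => QuotientGroup.kerLift_injective (phiHom Ω A) (Equiv.ext h)⟩

theorem toBar_smul {A : Subgroup G} (g : cent A) (c : Phi Ω A) : toBar Ω A g • c = g • c := rfl

theorem coe_smul_phi {A : Subgroup G} (g : cent A) (c : Phi Ω A) :
    ((g • c : Phi Ω A) : Ω) = (g : G) • (c : Ω) := rfl

theorem ker_fix {A : Subgroup G} {g : cent A} (hg : g ∈ (phiHom Ω A).ker) (c : Phi Ω A) :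
    (g : G) • (c : Ω) = c :=
  congrArg Subtype.val (congrFun (congrArg DFunLike.coe (MonoidHom.mem_ker.mp hg)) c)

/-- The image of `C_S(A)`. -/
abbrev barS (Ω : Type v) [MulAction G Ω] (S A : Subgroup G) : Subgroup (Bar Ω A) :=
  (S.subgroupOf (cent A)).map (toBar Ω A)

variable [Finite G] [FaithfulSMul G Ω]

/-- A transitive normal regular subgroup containing `S` gives a rank one set-up. -/
theorem setup (hC : Closed G Ω a S) {b : Ω} (hb : b ≠ a) {u : G} (hu : IsInv u) (hua : u • a = b)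
    {M : Subgroup G} (hSM : S ≤ M) (hM : M ≤ stabilizer G a)
    (hn : ∀ h : G, h • a = a → ∀ x ∈ M, h * x * h⁻¹ ∈ M) (hreg : ∀ x ∈ M, x • b = b → x = 1)
    (htr : ∀ c : Ω, c ≠ a → ∃ x ∈ M, x • b = c) : IsRankOneSetup G Ω a u M := by
  have hta : stabilizer G (u • a) = stabilizer G b := by rw [hua]
  refine ⟨?_, hu.2, hu.1, fun h => hb (hua ▸ mem_stabilizer_iff.mp h), hM,
    fun h hh x hx => hn h (mem_stabilizer_iff.mp hh) x hx, ?_, ?_, ?_, ?_⟩
  · rw [is_two_pretransitive_iff]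
    haveI := hC.trans
    have key : ∀ p q : Ω, p ≠ q → ∃ g : G, g • a = p ∧ g • b = q := by
      intro p q hpq
      obtain ⟨g, rfl⟩ := exists_smul_eq G a p
      obtain ⟨x, hx, hxb⟩ := htr (g⁻¹ • q) (fun e => hpq (inv_smul_eq_iff.mp e).symm)
      exact ⟨g * x, by rw [mul_smul, mem_stabilizer_iff.mp (hM hx)], by rw [mul_smul, hxb, smul_inv_smul]⟩
    intro p q p' q' hpq hpq'
    obtain ⟨g, h1, h2⟩ := key p q hpq
    obtain ⟨k, h3, h4⟩ := key p' q' hpq'
    exact ⟨k * g⁻¹, by rw [mul_smul, ← h1, inv_smul_smul, h3], by rw [mul_smul, ← h2, inv_smul_smul, h4]⟩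
  · rw [hta, eq_bot_iff]
    exact fun x hx => Subgroup.mem_bot.mpr (hreg x hx.1 (mem_stabilizer_iff.mp hx.2))
  · rw [hta]
    refine le_antisymm (sup_le hM inf_le_left) fun h hh => ?_
    have hha := mem_stabilizer_iff.mp hh
    obtain ⟨x, hx, hxb⟩ := htr (h • b) fun e => hb (smul_left_cancel h (e.trans hha.symm))
    rw [← mul_inv_cancel_left x h]
    refine Subgroup.mul_mem_sup hx (mem_two.mpr ⟨?_, ?_⟩)
    · rw [mul_smul, hha, inv_smul_eq_iff, mem_stabilizer_iff.mp (hM hx)]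
    · rw [mul_smul, inv_smul_eq_iff, hxb]
  · obtain ⟨i, hi, hia⟩ := exists_inv_at hC a
    rw [even_iff_two_dvd, ← orderOf_eq_prime (show i ^ 2 = 1 by rw [pow_two, hi.2]) hi.1]
    exact Subgroup.orderOf_dvd_natCard M (hSM (mem_S hC hi hia))
  · rw [hta]
    exact odd_two hC hb.symm

theorem card_pow_of_trans (hB : PartB.{u, v}) (hC : Closed G Ω a S) (hT : Trans a S) :
    ∃ k : ℕ, k ≠ 0 ∧ Nat.card S = (Nat.card (InvAt G a) + 1) ^ k := by
  obtain ⟨b, hb⟩ := exists_ne hC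
  obtain ⟨⟨u, hu, hua⟩⟩ := exists_swap hC hb.symm
  have hS := setup hC hb hu hua le_rfl hC.le hC.conj
    (fun x hx hxb => eq_one_of_fix hC hx hxb hb) (fun c hc => hT b c hb hc)
  obtain ⟨-, hsh, -⟩ := hB G Ω a u S hS hC.four
  rw [← qZ_eq hC]
  rcases hsh with h | ⟨-, ⟨h, -⟩ | ⟨h, -⟩⟩
  · refine ⟨1, one_ne_zero, ?_⟩
    rw [pow_one, qZ_eq hC, ← card_omega hC]
    exact Nat.card_congr (Equiv.subtypeEquivRight fun x => ⟨fun hx => ⟨hx, h x hx⟩, fun hx => hx.1⟩)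
  · exact ⟨3, by norm_num, h⟩
  · exact ⟨2, by norm_num, h⟩

variable (hC : Closed G Ω a S) {A : Subgroup G}
include hC

theorem phi_fixed (c : Phi Ω A) {e : G} (he : e ∈ A) : e • (c : Ω) = c := by
  obtain ⟨x, hx, hi, hc⟩ := c.2
  exact commute_fix hC hi hc (mem_cent.mp hx e he)

theorem odd_ker (p q : Phi Ω A) (hpq : p ≠ q) : Odd (Nat.card (phiHom Ω A).ker) := by
  rw [← Subgroup.card_map_of_injective (cent A).subtype_injective]
  refine odd_card_of_forall fun x hx hi => ?_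
  obtain ⟨g, hg, rfl⟩ := hx
  exact hpq (Subtype.ext (eq_of_fix hC hi (ker_fix hg p) (ker_fix hg q)))

/-- A 2-element of the quotient is the image of a 2-element, a power of any preimage. -/
theorem lift_two (p q : Phi Ω A) (hpq : p ≠ q) {g : cent A} {k : ℕ}
    (hg : toBar Ω A g ^ 2 ^ k = 1) : ∃ e : ℕ, toBar Ω A (g ^ e) = toBar Ω A g ∧ (g ^ e) ^ 2 ^ k = 1 := by
  set l := Nat.card (phiHom Ω A).ker
  have hco : Nat.Coprime (2 ^ k) l := (Nat.coprime_two_left.mpr (odd_ker hC p q hpq)).pow_left k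
  obtain ⟨e, he1, he0⟩ := Nat.chineseRemainder hco 1 0
  refine ⟨e, ?_, ?_⟩
  · rw [map_pow]
    conv_rhs => rw [← pow_one (toBar Ω A g)]
    exact pow_eq_pow_iff_modEq.mpr (he1.of_dvd (orderOf_dvd_of_pow_eq_one hg))
  · obtain ⟨n, rfl⟩ := (Nat.modEq_zero_iff_dvd.mp he0)
    have hmem : g ^ 2 ^ k ∈ (phiHom Ω A).ker := by
      rw [← QuotientGroup.eq_one_iff]
      exact (map_pow (toBar Ω A) g (2 ^ k)).trans hg
    have h1 : (⟨_, hmem⟩ : (phiHom Ω A).ker) ^ l = 1 := pow_card_eq_one'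
    have h2 : (g ^ 2 ^ k) ^ l = 1 := congrArg Subtype.val h1
    rw [← pow_mul, show l * n * 2 ^ k = 2 ^ k * l * n by ring, pow_mul, pow_mul, h2, one_pow]

variable {i i' : G} (hi : IsInv i) (hia : i • a = a) (hiA : i ∈ cent A) (hi' : IsInv i') (hia' : i' • a = a)
  (hiA' : i' ∈ cent A) (hne : i ≠ i') (hz : ∃ z ∈ A, z ≠ 1 ∧ ∀ e ∈ A, e * z = z * e)
  {d : Ω} (hd : ∃ x ∈ cent A, IsInv x ∧ x • d = d) (hda : d ≠ a)
include hi hia hiA hi' hia' hiA' hne hz hd hda

theorem barS_mem {x : Bar Ω A} (hx : x ∈ barS Ω S A) : ∃ y : cent A, (y : G) ∈ S ∧ toBar Ω A y = x := by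
  obtain ⟨y, hy, rfl⟩ := hx
  exact ⟨y, hy, rfl⟩

theorem toBar_inj_S {y : cent A} (hy : (y : G) ∈ S) (h : toBar Ω A y = 1) : y = 1 :=
  Subtype.ext (eq_one_of_fix hC hy
    (ker_fix (g := y) ((QuotientGroup.eq_one_iff y).mp h) ⟨d, hd⟩) hda)

theorem bar_closed : Closed (Bar Ω A) (Phi Ω A) ⟨a, i, hiA, hi, hia⟩ (barS Ω S A) := by
  have hpq : (⟨a, i, hiA, hi, hia⟩ : Phi Ω A) ≠ ⟨d, hd⟩ := fun e => hda (congrArg Subtype.val e).symm
  have hinj := @toBar_inj_S G Ω _ _ a S _ _ hC A i i' hi hia hiA hi' hia' hiA' hne hz d hd hda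
  refine ⟨⟨fun p q => ?_⟩, fun x hx => ?_, ?_, ?_, ?_, ?_, ?_⟩
  · rcases eq_or_ne p q with rfl | hne'
    · exact ⟨1, one_smul _ _⟩
    obtain ⟨x, hx, hxi, hxp⟩ := p.2
    obtain ⟨y, hy, hyi, hyq⟩ := q.2
    obtain ⟨w, hw, he, hcl⟩ := exists_swap_conj hC hxi hxp hyi hyq fun e => hne' (Subtype.ext e)
    have hwA : w ∈ cent A := (Subgroup.closure_le _).mpr (by
      rintro z (rfl | rfl) <;> assumption) hcl
    exact ⟨toBar Ω A ⟨w, hwA⟩, Subtype.ext (swap_points hC hxi hxp hyi hyq hw he).1⟩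
  · obtain ⟨g, rfl⟩ := QuotientGroup.mk'_surjective _ x
    obtain ⟨e, he, he2⟩ := lift_two hC _ _ hpq (g := g) (k := 1) (by rw [pow_one, pow_two]; exact hx.2)
    have hge : IsInv ((g ^ e : cent A) : G) := ⟨fun h => hx.1 (by
      rw [← he, show g ^ e = 1 from Subtype.ext h, map_one]), by
      rw [pow_one, pow_two] at he2; exact congrArg Subtype.val he2⟩
    obtain ⟨c, hc⟩ := exists_fix hC hge
    refine ⟨⟨c, _, (g ^ e).2, hge, hc⟩, ?_, fun c' hc' => ?_⟩
    · show toBar Ω A g • _ = _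
      rw [← he]
      exact Subtype.ext hc
    · have h1 : toBar Ω A (g ^ e) • c' = c' := by rw [he]; exact hc'
      exact Subtype.ext (eq_of_fix hC hge (congrArg Subtype.val h1) hc)
  · have hcomm := inv_central hC hi hia (mem_S hC hi' hia')
    refine ⟨toBar Ω A ⟨i, hiA⟩, toBar Ω A ⟨i', hiA'⟩,
      fun h => hi.1 (congrArg Subtype.val (hinj (mem_S hC hi hia) h)),
      fun h => hi'.1 (congrArg Subtype.val (hinj (mem_S hC hi' hia') h)),
      fun h => hne ?_, ?_, ?_, ?_⟩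
    · have h1 := hinj (y := ⟨i, hiA⟩ * ⟨i', hiA'⟩) (mul_mem (mem_S hC hi hia) (mem_S hC hi' hia'))
        (by rw [map_mul, h, ← map_mul, show (⟨i', hiA'⟩ : cent A) * ⟨i', hiA'⟩ = 1 from Subtype.ext hi'.2,
          map_one])
      rw [← hi'.inv]
      exact mul_eq_one_iff_eq_inv.mp (congrArg Subtype.val h1)
    · rw [← map_mul, ← map_one (toBar Ω A)]; exact congrArg _ (Subtype.ext hi.2)
    · rw [← map_mul, ← map_one (toBar Ω A)]; exact congrArg _ (Subtype.ext hi'.2)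
    · rw [← map_mul, ← map_mul]; exact congrArg _ (Subtype.ext hcomm)
  · intro x hx
    obtain ⟨y, hy, rfl⟩ := @barS_mem G Ω _ _ a S _ _ hC A i i' hi hia hiA hi' hia' hiA' hne hz d hd hda x hx
    exact mem_stabilizer_iff.mpr (Subtype.ext (smul_a hC hy))
  · intro h hh x hx
    obtain ⟨y, hy, rfl⟩ := @barS_mem G Ω _ _ a S _ _ hC A i i' hi hia hiA hi' hia' hiA' hne hz d hd hda x hx
    obtain ⟨g, rfl⟩ := QuotientGroup.mk'_surjective _ h
    refine ⟨g * y * g⁻¹, ?_, by rw [map_mul, map_mul, map_inv]⟩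
    exact hC.conj _ (congrArg Subtype.val hh) _ hy
  · exact (hC.two_group.comap_subtype).map _
  · rintro x hx ⟨k, hk⟩
    obtain ⟨g, rfl⟩ := QuotientGroup.mk'_surjective _ x
    obtain ⟨e, he, he2⟩ := lift_two hC _ _ hpq (g := g) hk
    refine ⟨g ^ e, hC.two_mem _ ?_ ⟨k, congrArg Subtype.val he2⟩, he⟩
    have h1 : toBar Ω A (g ^ e) • (⟨a, i, hiA, hi, hia⟩ : Phi Ω A) = ⟨a, i, hiA, hi, hia⟩ := by
      rw [he]; exact hx
    exact congrArg Subtype.val h1

theorem card_bar_lt : Nat.card (Bar Ω A) < Nat.card G := by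
  obtain ⟨z, hzA, hz1, hzc⟩ := hz
  have hzC : z ∈ cent A := mem_cent.mpr hzc
  have hmem : (⟨z, hzC⟩ : cent A) ∈ (phiHom Ω A).ker :=
    MonoidHom.mem_ker.mpr (Equiv.ext fun c => Subtype.ext (phi_fixed hC c hzA))
  have h1 : 1 < Nat.card (phiHom Ω A).ker :=
    Finite.one_lt_card_iff_nontrivial.mpr ⟨⟨⟨_, hmem⟩, 1, fun e =>
      hz1 (congrArg (fun y : (phiHom Ω A).ker => ((y : cent A) : G)) e)⟩⟩
  have h2 := (phiHom Ω A).ker.card_eq_card_quotient_mul_card_subgroup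
  have h3 : Nat.card (cent A) ≤ Nat.card G := Nat.card_le_card_of_injective _ Subtype.val_injective
  have h4 : 0 < Nat.card (Bar Ω A) := Nat.card_pos
  change Nat.card (cent A) = Nat.card (Bar Ω A) * _ at h2
  nlinarith

theorem glue (ih : Below.{u, v} (Nat.card G)) {c : Ω} (hc : ∃ x ∈ cent A, IsInv x ∧ x • c = c)
    (hca : c ≠ a) : ∃ s ∈ S, s ∈ cent A ∧ s • d = c := by
  have hT := ih (Bar Ω A) (Phi Ω A) ⟨a, i, hiA, hi, hia⟩ (barS Ω S A)
    (@bar_closed G Ω _ _ a S _ _ hC A i i' hi hia hiA hi' hia' hiA' hne hz d hd hda)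
    (@card_bar_lt G Ω _ _ a S _ _ hC A i i' hi hia hiA hi' hia' hiA' hne hz d hd hda)
  obtain ⟨x, hx, hxd⟩ := hT ⟨d, hd⟩ ⟨c, hc⟩ (fun e => hda (congrArg Subtype.val e))
    (fun e => hca (congrArg Subtype.val e))
  obtain ⟨y, hy, rfl⟩ := hx
  exact ⟨y, hy, y.2, congrArg Subtype.val hxd⟩

/-- Elements of `G_a` normalising `A` lie in `S D`. -/
theorem normalizer_le (ih : Below.{u, v} (Nat.card G)) {g : G} (hga : g • a = a)
    (hg : g ∈ Subgroup.normalizer (A : Set G)) : g ∈ S ⊔ two a d := by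
  obtain ⟨x, hx, hxi, hxd⟩ := hd
  have hgd : ∃ x ∈ cent A, IsInv x ∧ x • g • d = g • d := by
    refine ⟨g * x * g⁻¹, mem_cent.mpr fun e he => ?_, hxi.conj g, smul_conj hxd⟩
    have h1 := mem_cent.mp hx _ ((Subgroup.mem_normalizer_iff''.mp hg e).mp he)
    calc e * (g * x * g⁻¹) = g * ((g⁻¹ * e * g) * x) * g⁻¹ := by group
      _ = g * (x * (g⁻¹ * e * g)) * g⁻¹ := by rw [h1]
      _ = g * x * g⁻¹ * e := by group
  obtain ⟨s, hs, -, hsd⟩ := @glue G Ω _ _ a S _ _ hC A i i' hi hia hiA hi' hia' hiA' hne hz d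
    ⟨x, hx, hxi, hxd⟩ hda ih (g • d) hgd (fun e => hda (smul_left_cancel g (e.trans hga.symm)))
  rw [← mul_inv_cancel_left s g]
  refine Subgroup.mul_mem_sup hs (mem_two.mpr ⟨?_, ?_⟩)
  · rw [mul_smul, hga, inv_smul_eq_iff, smul_a hC hs]
  · rw [mul_smul, inv_smul_eq_iff, hsd]

/-- The number of centres. -/
theorem card_phi (hB : PartB.{u, v}) (ih : Below.{u, v} (Nat.card G)) :
    Nat.card (Phi Ω A) = Nat.card ↥(S ⊓ cent A) + 1 ∧
      ∃ k : ℕ, k ≠ 0 ∧ Nat.card ↥(S ⊓ cent A) =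
        (Nat.card {x : G // IsInv x ∧ x • a = a ∧ x ∈ cent A} + 1) ^ k := by
  classical
  have hbc := @bar_closed G Ω _ _ a S _ _ hC A i i' hi hia hiA hi' hia' hiA' hne hz d hd hda
  have hinj := @toBar_inj_S G Ω _ _ a S _ _ hC A i i' hi hia hiA hi' hia' hiA' hne hz d hd hda
  have hinj' : ∀ {y y' : cent A}, (y : G) ∈ S → (y' : G) ∈ S → toBar Ω A y = toBar Ω A y' → y = y' :=
    fun {y y'} hy hy' h => inv_mul_eq_one.mp (hinj (y := y⁻¹ * y') (mul_mem (inv_mem hy) hy')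
      (by rw [map_mul, map_inv, h, inv_mul_cancel]))
  refine ⟨?_, ?_⟩
  · rw [← Finite.card_option]
    refine (Nat.card_eq_of_bijective (fun o : Option ↥(S ⊓ cent A) =>
      o.elim (⟨a, i, hiA, hi, hia⟩ : Phi Ω A) fun s => (⟨(s : G), s.2.2⟩ : cent A) • ⟨d, hd⟩) ⟨?_, ?_⟩).symm
    · have hne' : ∀ s : ↥(S ⊓ cent A), (s : G) • d ≠ a := fun s e =>
        hda (smul_left_cancel (s : G) (e.trans (smul_a hC s.2.1).symm))
      rintro (_ | s) (_ | s') h
      · rfl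
      · exact absurd (congrArg Subtype.val h).symm (hne' s')
      · exact absurd (congrArg Subtype.val h) (hne' s)
      · have h1 : (s : G) • d = (s' : G) • d := congrArg Subtype.val h
        have h2 := eq_one_of_fix hC (mul_mem (inv_mem s'.2.1) s.2.1)
          (show ((s' : G)⁻¹ * (s : G)) • d = d by rw [mul_smul, h1, inv_smul_smul]) hda
        exact congrArg some (Subtype.ext (inv_mul_eq_one.mp h2).symm)
    · intro c
      by_cases hca : (c : Ω) = a
      · exact ⟨none, Subtype.ext hca.symm⟩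
      · obtain ⟨s, hs, hs', e⟩ := @glue G Ω _ _ a S _ _ hC A i i' hi hia hiA hi' hia' hiA' hne hz d hd hda ih
          c c.2 hca
        exact ⟨some ⟨s, hs, hs'⟩, Subtype.ext e⟩
  · obtain ⟨k, hk, hcard⟩ := card_pow_of_trans hB hbc (ih _ _ _ _ hbc
      (@card_bar_lt G Ω _ _ a S _ _ hC A i i' hi hia hiA hi' hia' hiA' hne hz d hd hda))
    refine ⟨k, hk, ?_⟩
    have h1 : Nat.card ↥(S ⊓ cent A) = Nat.card (barS Ω S A) := by
      refine Nat.card_eq_of_bijective (fun y => ⟨toBar Ω A ⟨y, y.2.2⟩, ⟨_, y.2.1, rfl⟩⟩) ⟨?_, ?_⟩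
      · intro y y' h
        exact Subtype.ext (congrArg (fun w : cent A => (w : G))
          (hinj' (y := ⟨y, y.2.2⟩) (y' := ⟨y', y'.2.2⟩) y.2.1 y'.2.1 (congrArg Subtype.val h)))
      · rintro ⟨_, y, hy, rfl⟩
        exact ⟨⟨y, hy, y.2⟩, rfl⟩
    rw [h1, hcard]
    congr 2
    refine (Nat.card_eq_of_bijective (fun x : {x : G // IsInv x ∧ x • a = a ∧ x ∈ cent A} =>
      (⟨toBar Ω A ⟨x, x.2.2.2⟩, ⟨fun h => x.2.1.1 (congrArg Subtype.val
          (hinj (y := ⟨x, x.2.2.2⟩) (mem_S hC x.2.1 x.2.2.1) h)),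
        by rw [← map_mul, ← map_one (toBar Ω A)]; exact congrArg _ (Subtype.ext x.2.1.2)⟩,
        Subtype.ext x.2.2.1⟩ : InvAt (Bar Ω A) (⟨a, i, hiA, hi, hia⟩ : Phi Ω A))) ⟨?_, ?_⟩).symm
    · intro x x' h
      exact Subtype.ext (congrArg (fun w : cent A => (w : G))
        (hinj' (y := ⟨x, x.2.2.2⟩) (y' := ⟨x', x'.2.2.2⟩) (mem_S hC x.2.1 x.2.2.1) (mem_S hC x'.2.1 x'.2.2.1)
          (congrArg Subtype.val h)))
    · rintro ⟨z, hz', hza⟩
      obtain ⟨y, hy, rfl⟩ := @barS_mem G Ω _ _ a S _ _ hC A i i' hi hia hiA hi' hia' hiA' hne hz d hd hda _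
        (mem_S hbc hz' hza)
      have h2 : y * y = 1 := hinj (mul_mem hy hy) (by rw [map_mul, hz'.2])
      refine ⟨⟨y, ⟨fun e => hz'.1 ?_, congrArg Subtype.val h2⟩, smul_a hC hy, y.2⟩, rfl⟩
      rw [show y = 1 from Subtype.ext e, map_one]

end CfsgLib.Bender.TwoClosed
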