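import Cfsg.Agent.Lib.Bender.TwoClosed.Fixed
import Cfsg.Agent.Lib.Bender.OneFix.KOne
import Cfsg.Agent.Lib.Bender.TwoClosed.Local

/-!
Inverted elements, double transitivity, and the centralising lemma for elementary abelian subgroups of `D`.

Blueprint: `blueprint/bender/A_TwoClosed.md`, steps 2 and 4.
-/

set_option autoImplicit false
set_option linter.unusedSectionVars false
set_option linter.style.haveILetI false

namespace CfsgLib.Bender.TwoClosed

open MulAction Cfsg

universe u v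

variable {G : Type u} {Ω : Type v} [Group G] [MulAction G Ω]

instance invAtAction (a : Ω) : MulAction (stabilizer G a) (InvAt G a) where
  smul g x := ⟨g * x * (g : G)⁻¹, x.2.1.conj g, by
    have h := smul_conj (g := (g : G)) x.2.2
    rwa [mem_stabilizer_iff.mp g.2] at h⟩
  one_smul x := Subtype.ext (show (1 : G) * x * (1 : G)⁻¹ = x by group)
  mul_smul g g' x := Subtype.ext
    (show ((g : G) * g') * x * ((g : G) * g')⁻¹ = g * (g' * x * (g' : G)⁻¹) * (g : G)⁻¹ by group)

/-- The elements of a point stabiliser centralising its involutions. -/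
def cz (a : Ω) : Subgroup G :=
  stabilizer G a ⊓ Subgroup.centralizer {x : G | IsInv x ∧ x • a = a}

theorem mem_cz {a : Ω} {g : G} :
    g ∈ cz (G := G) a ↔ g • a = a ∧ ∀ x : G, IsInv x → x • a = a → x * g = g * x :=
  ⟨fun h => ⟨mem_stabilizer_iff.mp h.1, fun x hx hxa => h.2 x ⟨hx, hxa⟩⟩,
    fun h => ⟨mem_stabilizer_iff.mpr h.1, fun x hx => h.2 x hx.1 hx.2⟩⟩

variable [Finite G] [FaithfulSMul G Ω] {a b : Ω} {S : Subgroup G} (hC : Closed G Ω a S)
include hC

/-- The involutions at `a` centralising a `p`-subgroup of `G_a`, modulo `p`. -/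
theorem invAt_modEq {p : ℕ} [Fact p.Prime] {K : Subgroup G} (hK : IsPGroup p K)
    (hKa : K ≤ stabilizer G a) :
    Nat.card (InvAt G a) ≡ Nat.card {x : G // IsInv x ∧ x • a = a ∧ x ∈ cent K} [MOD p] := by
  letI : MulAction K (InvAt G a) := MulAction.compHom (InvAt G a) (Subgroup.inclusion hKa)
  refine (hK.card_modEq_card_fixedPoints (InvAt G a)).trans ?_
  rw [Nat.card_congr (
    { toFun := fun x => ⟨x.1.1, x.1.2.1, x.1.2.2, fun e he => mul_inv_eq_iff_eq_mul.mp
        (congrArg Subtype.val (x.2 ⟨e, he⟩))⟩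
      invFun := fun x => ⟨⟨x.1, x.2.1, x.2.2.1⟩, fun e => Subtype.ext
        (mul_inv_eq_iff_eq_mul.mpr (x.2.2.2 e e.2))⟩
      left_inv := fun x => rfl
      right_inv := fun x => rfl } :
      fixedPoints K (InvAt G a) ≃ {x : G // IsInv x ∧ x • a = a ∧ x ∈ cent K})]

/-- An element of odd order of a point stabiliser is not inverted there. -/
theorem not_inverted_stab {g y : G} {c : Ω} (hg : g • c = c) (hy : y • c = c) (hinv : g * y * g⁻¹ = y⁻¹)
    (hodd : Odd (orderOf y)) : y = 1 := by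
  obtain ⟨T, hT⟩ := exists_at hC c
  obtain ⟨k, l, hl, he⟩ := Nat.exists_eq_two_pow_mul_odd (orderOf_pos g).ne'
  have hgT : g ^ l ∈ T := hT.two_mem _ (mem_stabilizer_iff.mp (pow_mem (mem_stabilizer_iff.mpr hg) l))
    ⟨k, by rw [← pow_mul, mul_comm, ← he, pow_orderOf_eq_one]⟩
  obtain ⟨n, rfl⟩ := hl
  have h2 : g * g * y * (g * g)⁻¹ = y := by
    calc g * g * y * (g * g)⁻¹ = g * (g * y * g⁻¹) * g⁻¹ := by group
      _ = g * y⁻¹ * g⁻¹ := by rw [hinv]
      _ = (g * y * g⁻¹)⁻¹ := by group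
      _ = y := by rw [hinv, inv_inv]
  have h3 : Commute ((g * g) ^ n) y := Commute.pow_left (mul_inv_eq_iff_eq_mul.mp h2 : Commute (g * g) y) n
  have h4 : g ^ (2 * n + 1) * y * (g ^ (2 * n + 1))⁻¹ = y⁻¹ := by
    rw [pow_succ', pow_mul, pow_two, ← hinv]
    calc g * (g * g) ^ n * y * (g * (g * g) ^ n)⁻¹ = g * ((g * g) ^ n * y * ((g * g) ^ n)⁻¹) * g⁻¹ := by group
      _ = g * y * g⁻¹ := by rw [h3.eq, mul_inv_cancel_right]
  have h5 : y⁻¹ * y⁻¹ ∈ T := by
    nth_rewrite 1 [← h4]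
    rw [show g ^ (2 * n + 1) * y * (g ^ (2 * n + 1))⁻¹ * y⁻¹ =
      g ^ (2 * n + 1) * (y * (g ^ (2 * n + 1))⁻¹ * y⁻¹) by group]
    exact mul_mem hgT (hT.conj y hy _ (inv_mem hgT))
  obtain ⟨j, hj⟩ := hT.two_group ⟨_, h5⟩
  have h6 : y ^ 2 ^ (j + 1) = 1 := by
    have h7 : (y⁻¹ * y⁻¹) ^ 2 ^ j = 1 := congrArg Subtype.val hj
    rw [← pow_two, ← pow_mul, inv_pow, inv_eq_one] at h7
    rw [pow_succ', h7]
  exact orderOf_eq_one_iff.mp (Nat.Coprime.eq_one_of_dvd
    ((Nat.coprime_two_right.mpr hodd).pow_right (j + 1)) (orderOf_dvd_of_pow_eq_one h6))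

/-- An element inverted by an involution has a centraliser of odd order. -/
theorem inverted_oddCent {u y : G} (hu : IsInv u) (hinv : u * y * u = y⁻¹) (hy1 : y ≠ 1)
    (hodd : Odd (orderOf y)) : OddCent (Subgroup.zpowers y) := by
  intro x hxy hx
  have hyx : y * x = x * y := hxy y (Subgroup.mem_zpowers y)
  obtain ⟨c, hc⟩ := exists_fix hC hx
  have hyc : y • c = c := commute_fix hC hx hc hyx
  have hinv' : u * y * u⁻¹ = y⁻¹ := by rw [hu.inv, hinv]
  rcases eq_or_ne (u • c) c with huc | huc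
  · exact hy1 (not_inverted_stab hC huc hyc hinv' hodd)
  have hx' : IsInv (u * x * u) := by have := hx.conj u; rwa [hu.inv] at this
  have hxc' : (u * x * u) • u • c = u • c := by rw [mul_smul, mul_smul, hu.smul_twice, hc]
  obtain ⟨s, hs, he, hcl⟩ := exists_swap_conj hC hx hc hx' hxc' huc.symm
  have hsy : s ∈ Subgroup.centralizer ({y} : Set G) := (Subgroup.closure_le _).mpr (by
    rintro z (rfl | rfl)
    · exact Subgroup.mem_centralizer_singleton_iff.mpr hyx.symm
    · refine Subgroup.mem_centralizer_singleton_iff.mpr ?_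
      have h1 : u * y = y⁻¹ * u := mul_inv_eq_iff_eq_mul.mp hinv'
      have h3 : y * u = u * y⁻¹ := by
        calc y * u = u * (u * y * u) := by simp [← mul_assoc, hu.2]
          _ = u * y⁻¹ := by rw [hinv]
      calc u * x * u * y = u * (x * (u * y)) := by group
        _ = u * ((x * y⁻¹) * u) := by rw [h1]; group
        _ = u * ((y⁻¹ * x) * u) := by rw [(Commute.inv_left (hyx : Commute y x)).eq]
        _ = (u * y⁻¹) * x * u := by group
        _ = y * (u * x * u) := by rw [← h3]; group) hcl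
  have hsc : (u * s) • c = c := by
    rw [mul_smul, (swap_points hC hx hc hx' hxc' hs he).1, hu.smul_twice]
  refine hy1 (not_inverted_stab hC hsc hyc ?_ hodd)
  calc u * s * y * (u * s)⁻¹ = u * (s * y * s⁻¹) * u⁻¹ := by group
    _ = y⁻¹ := by rw [Subgroup.mem_centralizer_singleton_iff.mp hsy, mul_inv_cancel_right, hinv']

variable {p : ℕ} [Fact p.Prime] (hp2 : p ≠ 2)
include hp2

/-- A maximal `p`-subgroup of `G_{ab}` with only two fixed points when `p` divides the number of involutions. -/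
theorem sylow_fixed (hpm : p ∣ Nat.card (InvAt G a)) (hb : b ≠ a) :
    ∃ R, MaxP p (two a b) R ∧ MaxP p (stabilizer G a) R ∧ ∀ c ∈ fixSet Ω R, c = a ∨ c = b :=
  OneFix.sylow_fixed hC.oneFix (noBad hC) hp2 hpm hb

omit hp2 in
/-- `G` is doubly transitive. -/
theorem transitive_stab (hb : b ≠ a) {c : Ω} (hc : c ≠ a) : ∃ h : G, h • a = a ∧ h • b = c :=
  OneFix.transitive_stab hC.oneFix (noBad hC) hb hc

/-- The centralising lemma. -/
theorem centralises (hB : PartB.{u, v}) (ih : Below.{u, v} (Nat.card G)) (hb : b ≠ a) {u : G}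
    (hu : IsInv u) (hua : u • a = b) {R A : Subgroup G} (hR : IsPGroup p R) (hRD : R ≤ two a b)
    (huR : u ∈ Subgroup.normalizer (R : Set G)) (hAR : A ≤ R) (hAz : A ≤ cz a)
    (hn : ∀ r ∈ R, ∀ x ∈ A, r * x * r⁻¹ ∈ A) (hexp : ∀ x ∈ A, x ^ p = 1)
    (hab : ∀ x ∈ A, ∀ y ∈ A, x * y = y * x) : ∀ x ∈ A, x * u = u * x := by
  have hub := swap_back hC hu hua
  have hDodd : Odd (Nat.card (two a b : Subgroup G)) := odd_two hC hb.symm
  have huconj : ∀ {x : G}, x ∈ R → u * x * u ∈ R := fun {x} hx => by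
    have h := conj_mem_of_normalizer huR hx
    rwa [hu.inv] at h
  have huu : ∀ z : G, u * (u * z) = z := fun z => by rw [← mul_assoc, hu.2, one_mul]
  obtain ⟨i, hi, hia⟩ := exists_inv_at hC a
  have hfixB : ∀ y ∈ A, u * y * u ∈ A → u * y * u = y := by
    intro y hy huy
    have h1 : y⁻¹ * (u * y * u) = 1 := by
      refine inverted_commute hC hu hi (odd_orderOf hDodd (hRD (hAR (mul_mem (inv_mem hy) huy)))) ?_
        ((mem_cz.mp (hAz (mul_mem (inv_mem hy) huy))).2 i hi hia).symm hia (by rw [hua]; exact hb)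
      rw [mul_inv_rev, inv_inv, mul_inv_rev, mul_inv_rev, hu.inv]
      simp [mul_assoc, hu.2, huu]
    exact (inv_mul_eq_one.mp h1).symm
  intro x hx
  set xu := u * x * u with hxu
  have hxuR : xu ∈ R := huconj (hAR hx)
  have hxuu : u * xu * u = x := by rw [hxu]; simp [mul_assoc, hu.2, huu]
  have hcomm : x * xu = xu * x := by
    set c := x * xu * x⁻¹ * xu⁻¹ with hc
    have hcA : c ∈ A := by
      rw [hc, show x * xu * x⁻¹ * xu⁻¹ = x * (xu * x⁻¹ * xu⁻¹) by group]
      exact mul_mem hx (hn xu hxuR _ (inv_mem hx))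
    have e1 : u * c * u = c⁻¹ := by
      have hconj : ∀ g g' : G, u * (g * g') * u = (u * g * u) * (u * g' * u) := fun g g' => by
        simp [mul_assoc, huu]
      have hconji : ∀ g : G, u * g⁻¹ * u = (u * g * u)⁻¹ := fun g => by
        rw [mul_inv_rev, mul_inv_rev, hu.inv, mul_assoc]
      rw [hc, hconj, hconj, hconj, hconji, hconji, hxuu, ← hxu]
      group
    have h2 : c = 1 := by
      refine eq_one_of_inv_eq ?_ (odd_orderOf hDodd (hRD (hAR hcA)))
      rw [← e1]
      exact hfixB c hcA (by rw [e1]; exact inv_mem hcA)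
    rw [hc, mul_inv_eq_one, mul_inv_eq_iff_eq_mul] at h2
    exact h2
  by_contra hne
  set y := x⁻¹ * xu with hy
  have hy1 : y ≠ 1 := fun e => hne (by
    have h1 : x = u * x * u := inv_mul_eq_one.mp e
    calc x * u = u * x * u * u := by rw [← h1]
      _ = u * x := by rw [mul_assoc, hu.2, mul_one])
  have hyinv : u * y * u = y⁻¹ := by
    rw [hy, mul_inv_rev, inv_inv, hxu, mul_inv_rev, mul_inv_rev, hu.inv]
    simp [mul_assoc, hu.2, huu]
  have hyR : y ∈ R := mul_mem (inv_mem (hAR hx)) hxuR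
  have hyodd : OddCent (Subgroup.zpowers y) :=
    inverted_oddCent hC hu hyinv hy1 (odd_orderOf hDodd (hRD hyR))
  have hxy : x * y = y * x := ((Commute.refl x).inv_right.mul_right (hcomm : Commute x xu)).eq
  have hxcz : ∀ j : G, IsInv j → j • a = a → j * x = x * j := (mem_cz.mp (hAz hx)).2
  have hya : ∀ j : G, IsInv j → j • a = a → j * y ≠ y * j := fun j hj hja h => hyodd j (fun e he => by
    obtain ⟨n, rfl⟩ := Subgroup.mem_zpowers_iff.mp he
    exact (Commute.zpow_left (h.symm : Commute y j) n).eq) hj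
  have hya0 : Subgroup.zpowers y ≤ stabilizer G a :=
    Subgroup.zpowers_le.mpr (mem_stabilizer_iff.mpr (mem_two.mp (hRD hyR)).1)
  have hpm : p ∣ Nat.card (InvAt G a) := by
    have h := invAt_modEq hC (hR.to_le (Subgroup.zpowers_le.mpr hyR)) hya0
    haveI : IsEmpty {j : G // IsInv j ∧ j • a = a ∧ j ∈ cent (Subgroup.zpowers y)} :=
      ⟨fun j => hya j j.2.1 j.2.2.1 (j.2.2.2 y (Subgroup.mem_zpowers y)).symm⟩
    rw [Nat.card_of_isEmpty (α := {j : G // IsInv j ∧ j • a = a ∧ j ∈ cent (Subgroup.zpowers y)})] at h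
    exact Nat.modEq_zero_iff_dvd.mp h
  set w := x * xu with hw
  have hwu : w * u = u * w := by
    calc w * u = xu * x * u := by rw [hcomm]
      _ = u * w := by rw [hw, hxu]; group
  have hwR : w ∈ R := mul_mem (hAR hx) hxuR
  have hwI : ∀ j : G, IsInv j → j • a = a → j * w ≠ w * j := fun j hj hja h => by
    refine hya j hj hja ?_
    have hjx : Commute j x := hxcz j hj hja
    have h1 : Commute j (x⁻¹ * (x⁻¹ * w)) := hjx.inv_right.mul_right (hjx.inv_right.mul_right h)
    rw [hw, inv_mul_cancel_left] at h1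
    exact h1
  set W := Subgroup.zpowers w with hWdef
  have hcentW : ∀ j : G, j * w = w * j → j ∈ cent W := fun j h e he => by
    obtain ⟨n, rfl⟩ := Subgroup.mem_zpowers_iff.mp he
    exact (Commute.zpow_left (h.symm : Commute w j) n).eq
  have hxW : x ∈ cent W := hcentW x ((Commute.refl x).mul_right hcomm).eq
  have hyW : y ∈ cent W := hcentW y
    ((show Commute y x from hxy.symm).mul_right
      (Commute.mul_left (show Commute x xu from hcomm).inv_left (Commute.refl xu))).eq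
  set R1 := Subgroup.zpowers x ⊔ Subgroup.zpowers y with hR1def
  have hR1R : R1 ≤ R := sup_le (Subgroup.zpowers_le.mpr (hAR hx)) (Subgroup.zpowers_le.mpr hyR)
  have hR1W : R1 ≤ cent W := sup_le (Subgroup.zpowers_le.mpr hxW) (Subgroup.zpowers_le.mpr hyW)
  have hR1odd : OddCent R1 := hyodd.mono le_sup_right
  have hno : ∀ {j : G} {c : Ω}, IsInv j → j ∈ cent W → j • c = c → c ≠ a ∧ c ≠ b := by
    intro j c hj hjW hjc
    have hjw : j * w = w * j := (hjW w (Subgroup.mem_zpowers w)).symm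
    refine ⟨fun e => hwI j hj (e ▸ hjc) hjw, fun e => ?_⟩
    subst e
    refine hwI (u * j * u) (by have := hj.conj u; rwa [hu.inv] at this)
      (by rw [mul_smul, mul_smul, hua, hjc, hub]) ?_
    calc u * j * u * w = u * (j * (u * w)) := by group
      _ = u * ((j * w) * u) := by rw [← hwu]; group
      _ = (u * w) * j * u := by rw [hjw]; group
      _ = w * (u * j * u) := by rw [← hwu]; group
  obtain ⟨c, hc⟩ := exists_fix hC hu
  have huW : u ∈ cent W := hcentW u hwu.symm
  have hpPhi : p ∣ Nat.card (Phi Ω W) := by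
    haveI : Finite Ω := by
      haveI := hC.trans
      exact Finite.of_surjective (fun g : G => g • a) (exists_smul_eq G a)
    letI : MulAction R1 (Phi Ω W) := MulAction.compHom (Phi Ω W) (Subgroup.inclusion hR1W)
    by_contra hnd
    obtain ⟨q, hq⟩ := (hR.to_le hR1R).nonempty_fixed_point_of_prime_not_dvd_card (Phi Ω W) hnd
    obtain ⟨j, hjW, hj, hjq⟩ := q.2
    exact fix_le_two hC hp2 R1 (hR.to_le hR1R) hR1odd a b q
      (fun e he => (mem_two.mp (hRD (hR1R he))).1) (fun e he => (mem_two.mp (hRD (hR1R he))).2)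
      (fun e he => congrArg Subtype.val (hq ⟨e, he⟩)) hb.symm (hno hj hjW hjq).1.symm (hno hj hjW hjq).2.symm
  obtain ⟨T, hT⟩ := exists_at hC c
  have hwc : w • c = c := commute_fix hC hu hc hwu
  set n := Nat.card {j : G // IsInv j ∧ j • c = c ∧ j ∈ cent W}
  have hWp : IsPGroup p W := hR.to_le (Subgroup.zpowers_le.mpr hwR)
  have hn0 : n ≡ 0 [MOD p] :=
    (invAt_modEq hT hWp (Subgroup.zpowers_le.mpr (mem_stabilizer_iff.mpr hwc))).symm.trans
      ((card_invAt_eq hC c).symm ▸ Nat.modEq_zero_iff_dvd.mpr hpm)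
  obtain ⟨i', hi', hi'c, hi'W, hne'⟩ : ∃ j, IsInv j ∧ j • c = c ∧ j ∈ cent W ∧ u ≠ j := by
    by_contra hcon
    push Not at hcon
    have h1 : n = 1 := Nat.card_eq_one_iff_exists.mpr
      ⟨⟨u, hu, hc, huW⟩, fun j => Subtype.ext (hcon j j.2.1 j.2.2.1 j.2.2.2).symm⟩
    rw [h1] at hn0
    exact (Fact.out : p.Prime).not_dvd_one (Nat.modEq_zero_iff_dvd.mp hn0)
  have hex : ∃ d : Ω, (∃ j ∈ cent W, IsInv j ∧ j • d = d) ∧ d ≠ c := by
    by_contra hcon
    push Not at hcon
    have h1 : Nat.card (Phi Ω W) = 1 := Nat.card_eq_one_iff_exists.mpr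
      ⟨⟨c, u, huW, hu, hc⟩, fun q => Subtype.ext (hcon q q.2)⟩
    rw [h1] at hpPhi
    exact (Fact.out : p.Prime).not_dvd_one hpPhi
  obtain ⟨d, hd, hdc⟩ := hex
  have hz : ∃ z ∈ W, z ≠ 1 ∧ ∀ e ∈ W, e * z = z * e :=
    ⟨w, Subgroup.mem_zpowers w, fun e => hwI i hi hia (by rw [e, mul_one, one_mul]), fun e he => by
      obtain ⟨k, rfl⟩ := Subgroup.mem_zpowers_iff.mp he
      exact ((Commute.refl w).zpow_left k).eq⟩
  obtain ⟨hphi, k, -, hk⟩ := card_phi hT hu hc huW hi' hi'c hi'W hne' hz hd hdc hB ih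
  have h2 : Nat.card (Phi Ω W) ≡ 2 [MOD p] := by
    rw [hphi, hk]
    simpa using (((hn0.add_right 1).pow k).add_right 1)
  exact hp2 ((Nat.prime_dvd_prime_iff_eq Fact.out Nat.prime_two).mp
    (Nat.modEq_zero_iff_dvd.mp (h2.symm.trans (Nat.modEq_zero_iff_dvd.mpr hpPhi))))

end CfsgLib.Bender.TwoClosed
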