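import Cfsg.Agent.Lib.Bender.TwoClosed.Key
import Cfsg.Agent.S0205
import Cfsg.Agent.S1161
import Cfsg.Agent.S3360

/-!
A point stabiliser acting on the group of its involutions: semilinearity and the abelian quotient.

Blueprint: `blueprint/bender/A_TwoClosed.md`, step 6.
-/

set_option autoImplicit false
set_option linter.unusedSectionVars false
set_option linter.style.haveILetI false
set_option linter.overlappingInstances false

namespace CfsgLib.Bender.TwoClosed

open MulAction Cfsg
open scoped IsMulCommutative commutatorElement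

universe u v

variable {G : Type u} {Ω : Type v} [Group G] [MulAction G Ω] [Finite G] [FaithfulSMul G Ω] {a : Ω}
  {S : Subgroup G} (hC : Closed G Ω a S)

include hC in
theorem omega_comm : IsMulCommutative (omega hC) := ⟨⟨fun x y => by
  refine Subtype.ext ?_
  show (x : G) * y = (y : G) * x
  rcases eq_or_ne (x : G) 1 with h | h
  · rw [h, one_mul, mul_one]
  · exact inv_central hC ⟨h, x.2.2⟩ (smul_a hC x.2.1) y.2.1⟩⟩

include hC in
theorem conj_mem_omega {g : G} (hg : g • a = a) {x : G} (hx : x ∈ omega hC) : g * x * g⁻¹ ∈ omega hC :=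
  ⟨hC.conj g hg x hx.1, by rw [conj_mul, hx.2, mul_one, mul_inv_cancel]⟩

/-- Conjugation of the point stabiliser on the group of its involutions. -/
noncomputable def omegaConj : stabilizer G a →* MulAut (omega hC) where
  toFun g :=
    { toFun := fun x => ⟨g * x * (g : G)⁻¹, conj_mem_omega hC (mem_stabilizer_iff.mp g.2) x.2⟩
      invFun := fun x => ⟨(g : G)⁻¹ * x * g, by
        have := conj_mem_omega hC (g := (g : G)⁻¹)
          (by rw [inv_smul_eq_iff, mem_stabilizer_iff.mp g.2]) x.2
        rwa [inv_inv] at this⟩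
      left_inv := fun x => Subtype.ext (by simp [mul_assoc])
      right_inv := fun x => Subtype.ext (by simp [mul_assoc])
      map_mul' := fun x y => Subtype.ext (by simp [mul_assoc]) }
  map_one' := MulEquiv.ext fun x => Subtype.ext (by simp)
  map_mul' g g' := MulEquiv.ext fun x => Subtype.ext (by simp [mul_assoc])

theorem omegaConj_apply (g : stabilizer G a) (x : omega hC) :
    ((omegaConj hC g x : omega hC) : G) = (g : G) * x * (g : G)⁻¹ := rfl

include hC in
/-- The image of the point stabiliser in the automorphisms of the group of its involutions has odd order. -/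
theorem odd_range : Odd (Nat.card (omegaConj hC).range) := by
  refine odd_card_of_forall fun x hx hi => ?_
  obtain ⟨g, rfl⟩ := hx
  obtain ⟨k, l, hl, he⟩ := Nat.exists_eq_two_pow_mul_odd (orderOf_pos g).ne'
  have hgS : ((g : G)) ^ l ∈ S := hC.two_mem _
    (mem_stabilizer_iff.mp (pow_mem g.2 l)) ⟨k, by
      rw [← pow_mul, mul_comm, ← he, Subgroup.orderOf_coe g |>.symm, pow_orderOf_eq_one]⟩
  have h1 : omegaConj hC g ^ l = 1 := by
    rw [← map_pow]
    refine MulEquiv.ext fun y => Subtype.ext ?_
    rw [omegaConj_apply, SubmonoidClass.coe_pow]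
    show (g : G) ^ l * y * ((g : G) ^ l)⁻¹ = y
    rcases eq_or_ne (y : G) 1 with h | h
    · rw [h, mul_one, mul_inv_cancel]
    · rw [← inv_central hC ⟨h, y.2.2⟩ (smul_a hC y.2.1) hgS, mul_inv_cancel_right]
  obtain ⟨n, rfl⟩ := hl
  rw [pow_succ, pow_mul, pow_two, hi.2, one_pow, one_mul] at h1
  exact hi.1 h1

include hC in
/-- An element acting trivially lies in `cz a`. -/
theorem mem_cz_of_omegaConj {g : stabilizer G a} (h : omegaConj hC g = 1) : (g : G) ∈ cz (G := G) a := by
  refine mem_cz.mpr ⟨mem_stabilizer_iff.mp g.2, fun x hx hxa => ?_⟩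
  have h1 := congrArg Subtype.val (DFunLike.congr_fun h ⟨x, mem_S hC hx hxa, hx.2⟩)
  exact (mul_inv_eq_iff_eq_mul.mp h1).symm

include hC in
theorem omega_trans (x y : omega hC) (hx : x ≠ 1) (hy : y ≠ 1) : ∃ g : stabilizer G a, omegaConj hC g x = y := by
  obtain ⟨b, hb⟩ := exists_ne hC
  obtain ⟨g, hg, he⟩ := exists_conj_stab hC (i := (x : G)) ⟨fun e => hx (Subtype.ext e), x.2.2⟩
    (smul_a hC x.2.1) (i' := (y : G)) ⟨fun e => hy (Subtype.ext e), y.2.2⟩ (smul_a hC y.2.1) hb.symm
  exact ⟨⟨g, hg.1⟩, Subtype.ext he⟩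

/-- A finite field whose only elements fixed by a group `K` of automorphisms are `0` and `1`. -/
theorem card_eq_two_pow {F : Type} [Field F] [Finite F] (K : Subgroup (F ≃+* F))
    (h : ∀ x : F, (∀ k ∈ K, k x = x) → x = 0 ∨ x = 1) : Nat.card F = 2 ^ Nat.card K := by
  classical
  haveI : Finite (F ≃+* F) := DFunLike.finite _
  haveI := Fintype.ofFinite K
  haveI := Fintype.ofFinite F
  have h1 := FixedPoints.finrank_eq_card K F
  have h2 := Module.natCard_eq_pow_finrank (K := FixedPoints.subfield K F) (V := F)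
  rw [h2, h1, ← Nat.card_eq_fintype_card]
  congr 1
  let e : Fin 2 → FixedPoints.subfield K F := ![0, 1]
  refine ((Nat.card_eq_of_bijective e ⟨?_, ?_⟩).symm.trans (by simp))
  · intro i j hij
    fin_cases i <;> fin_cases j <;> simp_all [e]
  · intro x
    rcases h x (fun k hk => x.2 ⟨k, hk⟩) with e0 | e1
    · exact ⟨0, Subtype.ext e0.symm⟩
    · exact ⟨1, Subtype.ext e1.symm⟩

include hC in
/-- A `p`-group acting as more than its subgroup `R` does leaves two involutions centralised by `R`. -/
theorem exists_two_cent {p : ℕ} [Fact p.Prime] (hpm : ¬ p ∣ Nat.card (InvAt G a)) {R P : Subgroup G}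
    (hRP : R ≤ P) (hP : IsPGroup p P) (hPa : P ≤ stabilizer G a) (hnot : ¬ P ≤ R ⊔ cz a) :
    ∃ i i' : G, IsInv i ∧ i • a = a ∧ i ∈ cent R ∧ IsInv i' ∧ i' • a = a ∧ i' ∈ cent R ∧ i ≠ i' := by
  haveI : Fact (Nat.Prime 2) := ⟨Nat.prime_two⟩
  haveI := omega_comm hC
  have h3 := card_invAt_ge hC
  obtain ⟨i, hi, hia, hiP⟩ : ∃ i : G, IsInv i ∧ i • a = a ∧ i ∈ cent P := by
    by_contra hcon
    push Not at hcon
    haveI : IsEmpty {x : G // IsInv x ∧ x • a = a ∧ x ∈ cent P} := ⟨fun x => hcon x x.2.1 x.2.2.1 x.2.2.2⟩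
    have h := invAt_modEq hC hP hPa
    rw [Nat.card_of_isEmpty (α := {x : G // IsInv x ∧ x • a = a ∧ x ∈ cent P})] at h
    exact hpm (Nat.modEq_zero_iff_dvd.mp h)
  refine ⟨i, ?_⟩
  by_contra hcon
  push Not at hcon
  have honly : ∀ x : G, IsInv x → x • a = a → x ∈ cent R → x = i := fun x hx hxa hxR =>
    (hcon x hi hia (fun e he => hiP e (hRP he)) hx hxa hxR).symm
  let V := Additive (omega hC)
  letI : Module (ZMod 2) V := AddCommGroup.zmodModule fun x => by
    rw [two_nsmul]
    exact congrArg Additive.ofMul (show Additive.toMul x * Additive.toMul x = 1 from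
      Subtype.ext (Additive.toMul x).2.2)
  haveI : Finite V := inferInstanceAs (Finite (omega hC))
  haveI : Nontrivial V := Finite.one_lt_card_iff_nontrivial.mp (by
    show 1 < Nat.card (omega hC)
    rw [card_omega hC]; omega)
  let D := (omegaConj hC).range
  let ρ : D →* (V ≃ₗ[ZMod 2] V) :=
    { toFun := fun d => { MulEquiv.toAdditive (d : MulAut (omega hC)) with
        map_smul' := fun c x => ZMod.map_smul (MulEquiv.toAdditive (d : MulAut (omega hC))).toAddMonoidHom c x }
      map_one' := LinearEquiv.ext fun _ => rfl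
      map_mul' := fun _ _ => LinearEquiv.ext fun _ => rfl }
  have hρ : Function.Injective ρ := fun d d' h => Subtype.ext (MulEquiv.ext fun x =>
    congrArg Additive.toMul (LinearEquiv.congr_fun h (Additive.ofMul x)))
  have htr : ∀ v w : V, v ≠ 0 → w ≠ 0 → ∃ d : D, ρ d v = w := fun v w hv hw => by
    obtain ⟨g, hg⟩ := omega_trans hC (Additive.toMul v) (Additive.toMul w)
      (fun e => hv (congrArg Additive.ofMul e)) (fun e => hw (congrArg Additive.ofMul e))
    exact ⟨⟨_, g, rfl⟩, congrArg Additive.ofMul hg⟩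
  rcases Cfsg.Agent.S3360.result 2 (Cfsg.Agent.S0205.result (odd_range hC)) ρ hρ htr with
    ⟨F, instF, finF, e, he⟩ | hexc
  swap
  · have hev : Even (Nat.card V) := by
      show Even (Nat.card (omega hC))
      rw [card_omega hC]
      exact (odd_invAt hC).add_one
    simp only [Set.mem_insert_iff, Set.mem_singleton_iff] at hexc
    rcases hexc with h | h | h | h | h | h <;> rw [h] at hev <;> revert hev <;> decide
  let v0 : omega hC := ⟨i, mem_S hC hi hia, hi.2⟩
  set z0 : F := e (Additive.ofMul v0) with hz0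
  have hz00 : z0 ≠ 0 := fun h => hi.1 (congrArg Subtype.val (congrArg Additive.toMul
    ((AddEquiv.map_eq_zero_iff e).mp h)))
  let dP : P → D := fun g => ⟨_, ⟨(g : G), hPa g.2⟩, rfl⟩
  have hfix : ∀ g : P, ρ (dP g) (Additive.ofMul v0) = Additive.ofMul v0 := fun g =>
    congrArg Additive.ofMul (Subtype.ext (show (g : G) * i * (g : G)⁻¹ = i by
      rw [hiP g g.2, mul_inv_cancel_right]))
  have hσ : ∀ g : P, ∃ σ : F ≃+* F, ∀ x : F, σ x = e (ρ (dP g) (e.symm (x * z0))) / z0 := fun g => by
    obtain ⟨c, σ, hc⟩ := he (dP g)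
    have h1 : c * σ z0 = z0 := by rw [hz0, ← hc, hfix]
    refine ⟨σ, fun x => ?_⟩
    rw [hc, AddEquiv.apply_symm_apply, map_mul, ← mul_assoc, mul_comm c, mul_assoc, h1, mul_div_cancel_right₀ _ hz00]
  choose σ hσ using hσ
  let θ : P →* (F ≃+* F) := MonoidHom.mk' σ fun g g' => RingEquiv.ext fun x => by
    show σ (g * g') x = σ g (σ g' x)
    rw [hσ, hσ, hσ, div_mul_cancel₀ _ hz00, AddEquiv.symm_apply_apply,
      show dP (g * g') = dP g * dP g' from Subtype.ext (map_mul (omegaConj hC)
        ⟨(g : G), hPa g.2⟩ ⟨(g' : G), hPa g'.2⟩), map_mul]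
    rfl
  have hker : ∀ g : P, θ g = 1 → (g : G) ∈ cz (G := G) a := fun g hg => by
    refine mem_cz_of_omegaConj hC (g := ⟨(g : G), hPa g.2⟩) (MulEquiv.ext fun y => ?_)
    have h1 := hσ g (e (Additive.ofMul y) / z0)
    rw [show σ g = RingEquiv.refl F from hg, RingEquiv.refl_apply, div_mul_cancel₀ _ hz00, AddEquiv.symm_apply_apply] at h1
    exact congrArg Additive.toMul (e.injective ((div_left_inj' hz00).mp h1.symm))
  set KR : Subgroup (F ≃+* F) := (R.subgroupOf P).map θ
  have hR2 : ∀ x : F, (∀ k ∈ KR, k x = x) → x = 0 ∨ x = 1 := by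
    intro x hx
    set y : omega hC := Additive.toMul (e.symm (x * z0)) with hy
    rcases eq_or_ne (y : G) 1 with h | h
    · left
      have h1 : e.symm (x * z0) = 0 := congrArg Additive.ofMul (Subtype.ext h : y = 1)
      exact (mul_eq_zero.mp ((AddEquiv.map_eq_zero_iff e.symm).mp h1)).resolve_right hz00
    · right
      have h1 : (y : G) = i := honly _ ⟨h, y.2.2⟩ (smul_a hC y.2.1) fun r hr => by
        have h2 := hx (θ ⟨r, hRP hr⟩) ⟨⟨r, hRP hr⟩, hr, rfl⟩
        rw [show (θ ⟨r, hRP hr⟩ : F ≃+* F) x = σ ⟨r, hRP hr⟩ x from rfl, hσ] at h2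
        have h3 : ρ (dP ⟨r, hRP hr⟩) (e.symm (x * z0)) = e.symm (x * z0) :=
          e.injective (by rw [AddEquiv.apply_symm_apply]; exact (div_eq_iff hz00).mp h2)
        exact mul_inv_eq_iff_eq_mul.mp (congrArg Subtype.val (congrArg Additive.toMul h3))
      have h4 : e.symm (x * z0) = Additive.ofMul v0 := congrArg Additive.ofMul (Subtype.ext h1 : y = v0)
      rw [← mul_left_inj' hz00, one_mul, ← e.apply_symm_apply (x * z0), h4]
  have hP2 : ∀ x : F, (∀ k ∈ θ.range, k x = x) → x = 0 ∨ x = 1 := fun x hx => hR2 x fun k hk => by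
    obtain ⟨g, -, rfl⟩ := hk
    exact hx _ ⟨g, rfl⟩
  haveI : Finite F := Finite.of_fintype F
  haveI : Finite (F ≃+* F) := DFunLike.finite _
  have hEq : KR = θ.range := by
    refine Subgroup.eq_of_le_of_card_ge (Subgroup.map_le_range _ _) (le_of_eq ?_)
    exact Nat.pow_right_injective le_rfl ((card_eq_two_pow θ.range hP2).symm.trans (card_eq_two_pow KR hR2))
  refine hnot fun g hg => ?_
  obtain ⟨r, hr, hre⟩ : θ ⟨g, hg⟩ ∈ KR := hEq ▸ ⟨_, rfl⟩
  rw [← mul_inv_cancel_left (r : G) g]
  exact Subgroup.mul_mem_sup hr (hker (r⁻¹ * ⟨g, hg⟩) (by rw [map_mul, map_inv, hre, inv_mul_cancel]))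

include hC in
/-- The point stabiliser has an abelian quotient of odd order which is non-trivial on every element
centralising one involution and not all. -/
theorem exists_abelian_quotient :
    ∃ (A : Type u) (_ : CommGroup A) (_ : Finite A) (θ : stabilizer G a →* A), Odd (Nat.card A) ∧
      ∀ g : stabilizer G a, θ g = 1 → (g : G) ∉ cz (G := G) a →
        ∀ i : G, IsInv i → i • a = a → i * g ≠ (g : G) * i := by
  haveI : Fact (Nat.Prime 2) := ⟨Nat.prime_two⟩
  haveI := omega_comm hC
  have h3 := card_invAt_ge hC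
  let V := Additive (omega hC)
  haveI : Finite V := inferInstanceAs (Finite (omega hC))
  haveI : Nontrivial V := Finite.one_lt_card_iff_nontrivial.mp (by
    show 1 < Nat.card (omega hC)
    rw [card_omega hC]; omega)
  let D := (omegaConj hC).range
  letI : DistribMulAction D V :=
    { smul := fun d x => Additive.ofMul ((d : MulAut (omega hC)) (Additive.toMul x))
      one_smul := fun _ => rfl
      mul_smul := fun _ _ _ => rfl
      smul_zero := fun d => congrArg Additive.ofMul (map_one (d : MulAut (omega hC)))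
      smul_add := fun d x y => congrArg Additive.ofMul (map_mul (d : MulAut (omega hC)) _ _) }
  haveI : FaithfulSMul D V := ⟨fun {d d'} h => Subtype.ext (MulEquiv.ext fun x =>
    congrArg Additive.toMul (h (Additive.ofMul x)))⟩
  obtain ⟨-, hfree, hcomm⟩ := Cfsg.Agent.S1161.result (D := D) (E := V) (odd_range hC) Nat.prime_two
    (fun x => by
      rw [two_nsmul]
      exact congrArg Additive.ofMul (show Additive.toMul x * Additive.toMul x = 1 from
        Subtype.ext (Additive.toMul x).2.2))
    (fun v w hv hw => by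
      obtain ⟨g, hg⟩ := omega_trans hC (Additive.toMul v) (Additive.toMul w)
        (fun e => hv (congrArg Additive.ofMul e)) (fun e => hw (congrArg Additive.ofMul e))
      exact ⟨⟨_, g, rfl⟩, congrArg Additive.ofMul hg⟩)
  have hc : ∀ x y : D ⧸ fittingSubgroup D, x * y = y * x := fun x y => by
    induction x using QuotientGroup.induction_on with | _ p => ?_
    induction y using QuotientGroup.induction_on with | _ q => ?_
    rw [← QuotientGroup.mk_mul, ← QuotientGroup.mk_mul, QuotientGroup.eq]
    refine hcomm ?_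
    rw [show (p * q)⁻¹ * (q * p) = ⁅q⁻¹, p⁻¹⁆ by simp [commutatorElement_def, mul_assoc]]
    exact Subgroup.commutator_mem_commutator (Subgroup.mem_top _) (Subgroup.mem_top _)
  refine ⟨D ⧸ fittingSubgroup D, { (inferInstance : Group (D ⧸ fittingSubgroup D)) with mul_comm := hc },
    inferInstance, (QuotientGroup.mk' (fittingSubgroup D)).comp (omegaConj hC).rangeRestrict,
    (odd_range hC).of_dvd_nat (Subgroup.card_quotient_dvd_card _), fun g hg hgcz i hi hia hcom => ?_⟩
  have hmem : (omegaConj hC).rangeRestrict g ∈ fittingSubgroup D := (QuotientGroup.eq_one_iff _).mp hg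
  have hne : (omegaConj hC).rangeRestrict g ≠ 1 := fun h =>
    hgcz (mem_cz_of_omegaConj hC (congrArg Subtype.val h))
  have h1 := hfree _ hmem hne (Additive.ofMul (⟨i, mem_S hC hi hia, hi.2⟩ : omega hC))
    (congrArg Additive.ofMul (Subtype.ext (show (g : G) * i * (g : G)⁻¹ = i by
      rw [← hcom, mul_inv_cancel_right])))
  exact hi.1 (congrArg Subtype.val (congrArg Additive.toMul h1))

end CfsgLib.Bender.TwoClosed
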